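import Mathlib

/-!
# A common nonzero isotropic vector of a few bilinear maps over a finite field (helper582)

* `exists_common_zero` : `K` finite, `β i : V × V → E` bilinear, `2 * (#ι * dim E) < dim V`: some `v ≠ 0` has
  `β i v v = 0` for all `i` (Chevalley-Warning).
-/

set_option autoImplicit false
set_option linter.style.haveILetI false

namespace Cfsg.Agent.H582.CommonZero

open Module MvPolynomial

theorem exists_common_zero {K V E ι : Type*} [Field K] [Finite K] [AddCommGroup V] [Module K V]
    [FiniteDimensional K V] [AddCommGroup E] [Module K E] [FiniteDimensional K E] [Fintype ι]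
    (β : ι → V →ₗ[K] V →ₗ[K] E) (h : 2 * (Fintype.card ι * finrank K E) < finrank K V) :
    ∃ v : V, v ≠ 0 ∧ ∀ i, β i v v = 0 := by
  classical
  letI : Fintype K := Fintype.ofFinite K
  obtain ⟨p, hp⟩ := CharP.exists K
  haveI := hp
  let b := finBasis K V
  let e := finBasis K E
  let f : ι × Fin (finrank K E) → MvPolynomial (Fin (finrank K V)) K := fun ij =>
    ∑ a, ∑ c, C (e.repr (β ij.1 (b a) (b c)) ij.2) * (X a * X c)
  have hdeg : ∀ ij, (f ij).totalDegree ≤ 2 := by
    intro ij
    refine totalDegree_finsetSum_le fun a _ => totalDegree_finsetSum_le fun c _ => ?_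
    refine (totalDegree_mul _ _).trans ?_
    rw [totalDegree_C, zero_add]
    refine (totalDegree_mul _ _).trans ?_
    rw [totalDegree_X, totalDegree_X]
  have hsum : ∑ ij, (f ij).totalDegree < Fintype.card (Fin (finrank K V)) := by
    refine lt_of_le_of_lt (Finset.sum_le_card_nsmul _ _ 2 fun ij _ => hdeg ij) ?_
    rw [Finset.card_univ, Fintype.card_prod, Fintype.card_fin, Fintype.card_fin, smul_eq_mul, mul_comm]
    exact h
  have heval : ∀ (x : Fin (finrank K V) → K) ij, eval x (f ij) =
      e.repr (β ij.1 (∑ a, x a • b a) (∑ c, x c • b c)) ij.2 := by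
    intro x ij
    simp only [f, map_sum, map_mul, eval_C, eval_X, map_smul, LinearMap.sum_apply, LinearMap.smul_apply,
      Finsupp.coe_finsetSum, Finset.sum_apply, Finsupp.smul_apply, smul_eq_mul, Finset.smul_sum]
    rw [Finset.sum_comm]
    refine Finset.sum_congr rfl fun a _ => Finset.sum_congr rfl fun c _ => by ring
  have hdvd := char_dvd_card_solutions_of_fintype_sum_lt (K := K) p (f := f) hsum
  have hpos : 0 < Fintype.card {x : Fin (finrank K V) → K // ∀ ij, eval x (f ij) = 0} := by
    refine Fintype.card_pos_iff.2 ⟨⟨0, fun ij => ?_⟩⟩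
    rw [heval]
    simp
  have hp2 : 2 ≤ p := (CharP.char_is_prime K p).two_le
  have hone : 1 < Fintype.card {x : Fin (finrank K V) → K // ∀ ij, eval x (f ij) = 0} := by
    have := Nat.le_of_dvd hpos hdvd
    omega
  obtain ⟨⟨x, hx⟩, hne⟩ := Fintype.exists_ne_of_one_lt_card hone ⟨0, fun ij => by rw [heval]; simp⟩
  have hx0 : x ≠ 0 := fun h => hne (Subtype.ext h)
  refine ⟨∑ a, x a • b a, ?_, fun i => ?_⟩
  · intro h0
    apply hx0
    have := b.linearIndependent
    rw [Fintype.linearIndependent_iff] at this
    funext a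
    exact this x h0 a
  · apply e.repr.injective
    ext j
    rw [← heval x (i, j), hx (i, j), map_zero]
    rfl

end Cfsg.Agent.H582.CommonZero
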