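import Mathlib
import Cfsg.Agent.CpAutU.Fixed
import Cfsg.Agent.ClassicalGeometry.PSUAutMain
import Cfsg.Agent.H582.CommonZero

/-!
# Automorphisms of odd prime order of `PSU_n(q)` without fixed points of order `r`, the characteristic (helper582)
-/

set_option autoImplicit false
set_option linter.style.haveILetI false

namespace Cfsg.Agent.H582.FpfPSU

open Matrix Cfsg
open Cfsg.Agent.LieClassical.HermBasic Cfsg.Agent.LieClassical.HermSiegel
open Cfsg.Agent.ClassicalGeometry.PSUAutCount (gm semiConj toAut gm_mul gm_one gm_mul_inv gm_inv_mul eq_of_toAut_eq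
  sc gm_sc_mul toAut_sc_mul herm_gm act_semiConj herm_semi gm_mulVec_inv gm_inv_mulVec gm_inj)
open Cfsg.Agent.ClassicalGeometry.UnitAutBasic (hL hL_apply pr pr_surjective exists_scalar_of_mem_center
  mem_center_of_scalar exists_scalar_of_pr_eq pr_eq_of_scalar)
open Cfsg.Agent.Schreier.PSU (f₁ f₂ toAut_eq mapGU conj_field toAut_pr' gm_mapGU f₁_eq_conj)
open Cfsg.Agent.CpAutU.Desc (toAut_mul exists_conj exists_scalar)
open Cfsg.Agent.CpAut.Psl (fixf mem_fixf)

section Zero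

variable {F : Type*} [Field F] [Fintype F] {q n : ℕ}

theorem orderOf_conj (hF : Fintype.card F = q ^ 2) : orderOf (conj hF : F ≃+* F) = 2 := by
  haveI : Fact (Nat.Prime 2) := ⟨Nat.prime_two⟩
  apply orderOf_eq_prime
  · ext x
    exact pow_q_pow_q hF x
  · intro h
    obtain ⟨x, hx⟩ := exists_not_fixed hF
    exact hx (RingEquiv.congr_fun h x)

theorem finrank_fixf (hF : Fintype.card F = q ^ 2) : Module.finrank ↥(fixf (conj hF : F ≃+* F)) F = 2 := by
  have h1 := Cfsg.Agent.CpAutU.Fld.card_fixf (orderOf_conj hF)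
  have h2 := Module.natCard_eq_pow_finrank (K := ↥(fixf (conj hF : F ≃+* F))) (V := F)
  rw [Nat.card_eq_fintype_card, h1] at h2
  exact (Nat.pow_right_injective (Cfsg.Agent.CpAutU.Fld.two_le_card _) h2).symm

/-- The form `h (M v, w)` over the fixed field of the conjugation. -/
def formK (hF : Fintype.card F = q ^ 2) (M : Matrix (Fin n) (Fin n) F) :
    (Fin n → F) →ₗ[↥(fixf (conj hF : F ≃+* F))] (Fin n → F) →ₗ[↥(fixf (conj hF : F ≃+* F))] F :=
  LinearMap.mk₂ _ (fun v w => hermForm n F q (M *ᵥ v) w)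
    (fun v v' w => by rw [mulVec_add, herm_add_left])
    (fun a v w => by
      rw [show a • v = (a : F) • v from rfl, mulVec_smul, herm_smul_left]
      rfl)
    (fun v w w' => by rw [herm_add_right hF])
    (fun a v w => by
      rw [show a • w = (a : F) • w from rfl, herm_smul_right]
      have h : (a : F) ^ q = a := mem_fixf.1 a.2
      rw [h]
      rfl)

theorem exists_zero (hF : Fintype.card F = q ^ 2) (B : GU n F q) {m : ℕ} (g : Fin m → ℕ) (h : 2 * m < n) :
    ∃ v : Fin n → F, v ≠ 0 ∧ ∀ i, hermForm n F q (gm B ^ g i *ᵥ v) v = 0 := by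
  haveI : FiniteDimensional ↥(fixf (conj hF : F ≃+* F)) F := Module.Finite.of_finite
  obtain ⟨v, hv, hv'⟩ := CommonZero.exists_common_zero (K := ↥(fixf (conj hF : F ≃+* F)))
    (fun i : Fin m => formK hF (gm B ^ g i)) (by
      rw [finrank_fixf hF, Fintype.card_fin, Module.finrank_pi_fintype, Finset.sum_const, Finset.card_univ,
        Fintype.card_fin, finrank_fixf hF, smul_eq_mul]
      omega)
  exact ⟨v, hv, hv'⟩

end Zero

section Orth

variable {F : Type*} [Field F] {q n : ℕ}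

theorem gm_pow (B : GU n F q) (k : ℕ) : gm (B ^ k) = gm B ^ k := by
  induction k with
  | zero => rw [pow_zero, pow_zero, gm_one]
  | succ k ih => rw [pow_succ, pow_succ, gm_mul, ih]

theorem herm_pow (B : GU n F q) (k : ℕ) (u v : Fin n → F) :
    hermForm n F q (gm B ^ k *ᵥ u) (gm B ^ k *ᵥ v) = hermForm n F q u v := by
  rw [← gm_pow]
  exact herm_gm _ _ _

variable [Fintype F]

theorem orth (hF : Fintype.card F = q ^ 2) {B : GU n F q} {p : ℕ} (hp : Odd p) {l : F}
    (hl : gm B ^ p = l • (1 : Matrix (Fin n) (Fin n) F)) {v : Fin n → F}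
    (h : ∀ k, 1 ≤ k → k ≤ (p - 1) / 2 → hermForm n F q (gm B ^ k *ᵥ v) v = 0) (k : ℕ) (h1 : 1 ≤ k) (hk : k < p) :
    hermForm n F q (gm B ^ k *ᵥ v) v = 0 := by
  by_cases h2 : k ≤ (p - 1) / 2
  · exact h k h1 h2
  · obtain ⟨m, rfl⟩ := hp
    have h3 := h (2 * m + 1 - k) (by omega) (by omega)
    rw [← herm_pow B (2 * m + 1 - k), mulVec_mulVec, ← pow_add, Nat.sub_add_cancel hk.le, hl, smul_mulVec,
      one_mulVec, herm_smul_left, herm_eq_zero_swap hF h3, mul_zero]

theorem orth2 (hF : Fintype.card F = q ^ 2) {B : GU n F q} {p : ℕ} {v : Fin n → F}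
    (h : ∀ k, 1 ≤ k → k < p → hermForm n F q (gm B ^ k *ᵥ v) v = 0) {i j : ℕ} (hi : i < p) (hj : j < p)
    (hij : i ≠ j) : hermForm n F q (gm B ^ i *ᵥ v) (gm B ^ j *ᵥ v) = 0 := by
  have key : ∀ i j : ℕ, i < p → j < i → hermForm n F q (gm B ^ i *ᵥ v) (gm B ^ j *ᵥ v) = 0 := by
    intro i j hi hji
    have h1 : gm B ^ i *ᵥ v = gm B ^ j *ᵥ (gm B ^ (i - j) *ᵥ v) := by
      rw [mulVec_mulVec, ← pow_add]
      congr 2
      omega
    rw [h1, herm_pow]
    exact h _ (by omega) (by omega)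
  rcases lt_or_gt_of_ne hij with h1 | h1
  · exact herm_eq_zero_swap hF (key j i hj h1)
  · exact key i j hi h1

end Orth

section Nilp

variable {F : Type*} [Field F] [Fintype F] {q n : ℕ}

/-- No nontrivial `1 + c N`. -/
theorem nilp (hF : Fintype.card F = q ^ 2) (hn : 3 ≤ n) {r : ℕ} [CharP F r] {B : GU n F q}
    (hfix : ∀ s : PSU n F q, toAut B 1 s = s → s ^ r = 1 → s = 1) {ι : Type*} [Fintype ι] (w : ι → (Fin n → F))
    (h0 : ∀ i j, hermForm n F q (w i) (w j) = 0)
    (hc : ∀ x, ∑ i, hermForm n F q (gm B *ᵥ x) (w i) • w i = gm B *ᵥ (∑ i, hermForm n F q x (w i) • w i))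
    (x : Fin n → F) : ∑ i, hermForm n F q x (w i) • w i = 0 := by
  classical
  obtain ⟨c, hc0, hcq⟩ := exists_trace_zero_ne hF
  let N : (Fin n → F) →ₗ[F] (Fin n → F) := ∑ i, (hL n q (w i)).smulRight (w i)
  have hN : ∀ x, N x = ∑ i, hermForm n F q x (w i) • w i := by
    intro x
    simp only [N, LinearMap.sum_apply, LinearMap.smulRight_apply, hL_apply]
  have hNw : ∀ j, N (w j) = 0 := by
    intro j
    rw [hN]
    exact Finset.sum_eq_zero fun i _ => by rw [h0, zero_smul]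
  have hNN : ∀ x, N (N x) = 0 := by
    intro x
    rw [hN x, map_sum]
    exact Finset.sum_eq_zero fun i _ => by rw [map_smul, hNw, smul_zero]
  have hwN : ∀ i x, hermForm n F q (w i) (N x) = 0 := by
    intro i x
    rw [hN x, herm_sum_right hF]
    exact Finset.sum_eq_zero fun j _ => by rw [herm_smul_right, h0, mul_zero]
  have hNNx : ∀ x y, hermForm n F q (N x) (N y) = 0 := by
    intro x y
    rw [hN x, herm_sum_left]
    exact Finset.sum_eq_zero fun i _ => by rw [herm_smul_left, hwN, mul_zero]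
  have hadj : ∀ x y, hermForm n F q (N x) y = hermForm n F q x (N y) := by
    intro x y
    rw [hN x, hN y, herm_sum_left, herm_sum_right hF]
    refine Finset.sum_congr rfl fun i _ => ?_
    rw [herm_smul_left, herm_smul_right, ← herm_swap hF]
    ring
  let T : Matrix (Fin n) (Fin n) F := LinearMap.toMatrix' (LinearMap.id + c • N)
  have hT : ∀ x, T *ᵥ x = x + c • N x := by
    intro x
    rw [← Matrix.toLin'_apply, Matrix.toLin'_toMatrix']
    rfl
  have hTh : ∀ u v, hermForm n F q (T *ᵥ u) (T *ᵥ v) = hermForm n F q u v := by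
    intro u v
    rw [hT, hT, herm_add_left, herm_add_right hF, herm_add_right hF, herm_smul_left, herm_smul_left,
      herm_smul_right, herm_smul_right, hNNx, hadj]
    linear_combination (hermForm n F q u (N v)) * hcq
  have hT1 : ∀ x, (T - 1) *ᵥ x = c • N x := by
    intro x
    rw [sub_mulVec, hT, one_mulVec, add_sub_cancel_left]
  have hcard : 3 ≤ Fintype.card F := by
    rw [hF]
    have := two_le hF
    nlinarith
  have hdet : T.det = 1 := by
    refine det_eq_one_of_unipotent hcard T ?_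
    apply Matrix.ext_of_mulVec_single
    intro i
    rw [← mulVec_mulVec, ← mulVec_mulVec, hT1, hT1, map_smul, hNN, smul_zero, smul_zero, zero_mulVec]
  let U : SU n F q := mkSU T hdet hTh
  have hU : ∀ x, act U x = x + c • N x := by
    intro x
    rw [act_def, mat_mkSU, hT]
  have hUk : ∀ (k : ℕ) x, act (U ^ k) x = x + (k : F) • c • N x := by
    intro k
    induction k with
    | zero => intro x; rw [pow_zero, act_one, Nat.cast_zero, zero_smul, add_zero]
    | succ k ih =>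
      intro x
      rw [pow_succ, act_mul, ih, hU, map_add, map_smul, hNN, smul_zero, add_zero]
      push_cast
      module
  have hUr : U ^ r = 1 := by
    apply ext_act
    intro x
    rw [hUk, CharP.cast_eq_zero, zero_smul, add_zero, act_one]
  have hzU : toAut B 1 (pr n F q U) = pr n F q U := by
    rw [toAut_pr']
    congr 1
    apply ext_act
    intro x
    have hx : x = gm B *ᵥ (gm B⁻¹ *ᵥ x) := by rw [gm_mulVec_inv]
    rw [hx, Cfsg.Agent.Schreier.PSU.act_semiConj_one, hU, hU, mulVec_add, mulVec_smul, hN, hN, hc]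
  have hpr := hfix _ hzU (by rw [← map_pow, hUr, map_one])
  obtain ⟨d, -, hd⟩ := exists_scalar_of_pr_eq hF hn (g := 1) (g' := U) (by rw [hpr, map_one])
  have h1 : ∀ x, x + c • N x = d • x := by
    intro x
    rw [← hU, hd, act_one]
  by_contra hne
  rw [← hN] at hne
  have h2 := h1 (N x)
  rw [hNN, smul_zero, add_zero] at h2
  have h3 : d = 1 := by
    have h4 : (d - 1) • N x = 0 := by rw [sub_smul, one_smul, ← h2, sub_self]
    rcases smul_eq_zero.1 h4 with h5 | h5
    · exact sub_eq_zero.1 h5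
    · exact absurd h5 hne
  have h4 := h1 x
  rw [h3, one_smul] at h4
  have h5 : c • N x = 0 := by
    have := congrArg (fun y => y - x) h4
    simpa using this
  exact hne ((smul_eq_zero.1 h5).resolve_left hc0)

end Nilp

section Indep

variable {F : Type*} [Field F] {n : ℕ}

open Polynomial in
/-- `M ^ p = l`, `l` not a `p`-th power: `v, M v, ..., M ^ (p - 1) v` are independent. -/
theorem indep {p : ℕ} (hp : p.Prime) {l : F} (hl : ∀ b : F, b ^ p ≠ l) {M : Matrix (Fin n) (Fin n) F}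
    (hM : M ^ p = l • (1 : Matrix (Fin n) (Fin n) F)) {v : Fin n → F} (hv : v ≠ 0) (c : ℕ → F)
    (h : ∑ i ∈ Finset.range p, c i • (M ^ i *ᵥ v) = 0) : ∀ i < p, c i = 0 := by
  classical
  let g : F[X] := ∑ i ∈ Finset.range p, C (c i) * X ^ i
  have hcoef : ∀ i, g.coeff i = if i < p then c i else 0 := by
    intro i
    simp only [g, finsetSum_coeff, coeff_C_mul, coeff_X_pow, mul_ite, mul_one, mul_zero]
    rw [Finset.sum_ite_eq]
    simp
  have hdeg : g.degree < p := by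
    rw [degree_lt_iff_coeff_zero]
    intro m hm
    rw [hcoef, if_neg (by omega)]
  have hg : (aeval M g) *ᵥ v = 0 := by
    rw [← h]
    simp only [g, map_sum, map_mul, aeval_C, map_pow, aeval_X]
    rw [Matrix.sum_mulVec]
    refine Finset.sum_congr rfl fun i _ => ?_
    rw [Algebra.algebraMap_eq_smul_one, smul_mul_assoc, one_mul, smul_mulVec]
  have hirr : Irreducible (X ^ p - C l : F[X]) := X_pow_sub_C_irreducible_of_prime hp hl
  have hP : aeval M (X ^ p - C l : F[X]) = 0 := by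
    rw [map_sub, map_pow, aeval_X, aeval_C, hM, Algebra.algebraMap_eq_smul_one, sub_self]
  have hg0 : g = 0 := by
    by_contra hne
    have hnd : ¬ (X ^ p - C l : F[X]) ∣ g := by
      intro hd
      have h1 := Polynomial.degree_le_of_dvd hd hne
      rw [degree_X_pow_sub_C hp.pos] at h1
      exact absurd hdeg (not_lt.2 h1)
    obtain ⟨a, b, hab⟩ := (hirr.coprime_iff_not_dvd.2 hnd)
    have h1 := congrArg (fun Q => (aeval M Q) *ᵥ v) hab
    simp only [map_add, map_mul, map_one, hP, mul_zero, zero_add, one_mulVec] at h1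
    rw [← mulVec_mulVec, hg, mulVec_zero] at h1
    exact hv h1.symm
  intro i hi
  have := hcoef i
  rw [hg0, coeff_zero, if_pos hi] at this
  exact this.symm

open Polynomial in
/-- The determinant of a cyclic matrix with `M ^ n = l`. -/
theorem det_eq (hn : Odd n) {l : F} {M : Matrix (Fin n) (Fin n) F}
    (hM : M ^ n = l • (1 : Matrix (Fin n) (Fin n) F)) {v : Fin n → F}
    (hind : ∀ c : ℕ → F, ∑ i ∈ Finset.range n, c i • (M ^ i *ᵥ v) = 0 → ∀ i < n, c i = 0) : M.det = l := by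
  classical
  let g : F[X] := M.charpoly - (X ^ n - C l)
  have hd1 : M.charpoly.degree = n := by
    rw [Matrix.charpoly_degree_eq_dim, Fintype.card_fin]
  have hd2 : (X ^ n - C l : F[X]).degree = n := degree_X_pow_sub_C hn.pos l
  have hdeg : g.degree < n := by
    have := degree_sub_lt_left (p := M.charpoly) (q := X ^ n - C l) (by rw [hd1, hd2]) (charpoly_monic M).ne_zero
      (by rw [(charpoly_monic M).leadingCoeff, (monic_X_pow_sub_C l hn.pos.ne').leadingCoeff])
    rwa [hd1] at this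
  have haev : aeval M g = 0 := by
    rw [map_sub, Matrix.aeval_self_charpoly, map_sub, map_pow, aeval_X, aeval_C, hM,
      Algebra.algebraMap_eq_smul_one, sub_self, sub_zero]
  have hsum : ∑ i ∈ Finset.range n, g.coeff i • (M ^ i *ᵥ v) = 0 := by
    have h1 := aeval_eq_sum_range' (n := n) (p := g) (by
      rcases eq_or_ne g 0 with h0 | h0
      · rw [h0, natDegree_zero]; exact hn.pos
      · rw [natDegree_lt_iff_degree_lt h0]; exact hdeg) M
    rw [haev] at h1
    have h2 := congrArg (fun Q => Q *ᵥ v) h1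
    simp only [zero_mulVec] at h2
    rw [h2, Matrix.sum_mulVec]
    exact Finset.sum_congr rfl fun i _ => (smul_mulVec _ _ _).symm
  have h0 := hind _ hsum 0 hn.pos
  rw [coeff_sub, sub_eq_zero, coeff_sub, coeff_X_pow, if_neg hn.pos.ne, coeff_C_zero, zero_sub] at h0
  rw [Matrix.det_eq_sign_charpoly_coeff, h0, Fintype.card_fin, hn.neg_one_pow]
  ring

end Indep

section Eig

variable {F : Type*} [Field F] [Fintype F] {q n : ℕ}

omit [Fintype F] in
theorem ne_zero_of_norm {c : F} (hc : c * c ^ q = 1) : c ≠ 0 := by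
  rintro rfl
  rw [zero_mul] at hc
  exact zero_ne_one hc

/-- No isotropic eigenvectors. -/
theorem no_eig (hF : Fintype.card F = q ^ 2) (hn : 3 ≤ n) {r : ℕ} [CharP F r] {B : GU n F q}
    (hfix : ∀ s : PSU n F q, toAut B 1 s = s → s ^ r = 1 → s = 1) {w : Fin n → F} (hw : w ≠ 0)
    (h0 : hermForm n F q w w = 0) {c : F} (hc : c * c ^ q = 1) (hB : gm B *ᵥ w = c • w) : False := by
  have hc0 := ne_zero_of_norm hc
  have h1 : ∀ x, hermForm n F q (gm B *ᵥ x) w = c * hermForm n F q x w := by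
    intro x
    have h2 : gm B *ᵥ (c⁻¹ • w) = w := by rw [mulVec_smul, hB, smul_smul, inv_mul_cancel₀ hc0, one_smul]
    calc hermForm n F q (gm B *ᵥ x) w = hermForm n F q (gm B *ᵥ x) (gm B *ᵥ (c⁻¹ • w)) := by rw [h2]
      _ = (c⁻¹) ^ q * hermForm n F q x w := by rw [herm_gm, herm_smul_right]
      _ = c * hermForm n F q x w := by
        congr 1
        rw [inv_pow]
        exact (eq_inv_of_mul_eq_one_left hc).symm
  have h2 : ∀ x, hermForm n F q x w • w = 0 := by
    intro x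
    have := nilp hF hn hfix (fun _ : Unit => w) (fun _ _ => h0) (by
      intro x
      simp only [Finset.univ_unique, Finset.sum_singleton]
      rw [h1, mulVec_smul, hB, smul_smul, mul_comm]) x
    simpa using this
  obtain ⟨x, hx⟩ := exists_herm_ne_zero hF hw
  rcases smul_eq_zero.1 (h2 x) with h3 | h3
  · first
    | exact hx h3
    | exact hx (herm_eq_zero_swap hF h3)
  · exact hw h3

/-- An eigenvector in the span of the `M ^ i v`. -/
theorem exists_eig (hF : Fintype.card F = q ^ 2) {p : ℕ} (hp : p.Prime) {e : F} (he : IsPrimitiveRoot e p)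
    (heq : e * e ^ q = 1) (hpF : (p : F) ≠ 0) {B : GU n F q} (hB : gm B ^ p = 1) {v : Fin n → F} (hv : v ≠ 0)
    (h0 : ∀ i j, i < p → j < p → hermForm n F q (gm B ^ i *ᵥ v) (gm B ^ j *ᵥ v) = 0) :
    ∃ w : Fin n → F, w ≠ 0 ∧ hermForm n F q w w = 0 ∧ ∃ c : F, c * c ^ q = 1 ∧ gm B *ᵥ w = c • w := by
  let w : ℕ → (Fin n → F) := fun j => ∑ k ∈ Finset.range p, (e ^ j) ^ k • (gm B ^ k *ᵥ v)
  have hww : ∀ j, hermForm n F q (w j) (w j) = 0 := by
    intro j
    simp only [w]
    rw [herm_sum_left]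
    refine Finset.sum_eq_zero fun k hk => ?_
    rw [herm_sum_right hF]
    refine Finset.sum_eq_zero fun l hl => ?_
    rw [herm_smul_left, herm_smul_right, h0 k l (Finset.mem_range.1 hk) (Finset.mem_range.1 hl), mul_zero, mul_zero]
  have hnorm : ∀ j : ℕ, e ^ j * (e ^ j) ^ q = 1 := by
    intro j
    rw [← pow_mul, mul_comm j q, pow_mul, ← mul_pow, heq, one_pow]
  have hej : ∀ j : ℕ, e ^ j ≠ 0 := fun j => ne_zero_of_norm (hnorm j)
  have hBw : ∀ j, e ^ j • (gm B *ᵥ w j) = w j := by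
    intro j
    have h1 : e ^ j • (gm B *ᵥ w j) = ∑ k ∈ Finset.range p, (e ^ j) ^ (k + 1) • (gm B ^ (k + 1) *ᵥ v) := by
      simp only [w]
      rw [mulVec_sum, Finset.smul_sum]
      refine Finset.sum_congr rfl fun k _ => ?_
      rw [mulVec_smul, mulVec_mulVec, ← pow_succ', smul_smul, ← pow_succ']
    rw [h1]
    have h2 := Finset.sum_range_succ' (fun k => (e ^ j) ^ k • (gm B ^ k *ᵥ v)) p
    rw [Finset.sum_range_succ, hB, ← pow_mul, mul_comm j p, pow_mul, he.pow_eq_one, one_pow, pow_zero, pow_zero] at h2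
    exact (add_right_cancel h2).symm
  have hsum : ∑ j ∈ Finset.range p, w j = (p : F) • v := by
    simp only [w]
    rw [Finset.sum_comm, Finset.sum_eq_single 0]
    · simp only [pow_zero, one_smul, one_mulVec, Finset.sum_const, Finset.card_range]
      rw [← Nat.cast_smul_eq_nsmul F]
    · intro k hk hk0
      rw [← Finset.sum_smul]
      have h1 : IsPrimitiveRoot (e ^ k) p := he.pow_of_coprime k
        (Nat.coprime_of_lt_prime hk0 (Finset.mem_range.1 hk) hp).symm
      have h2 : ∑ j ∈ Finset.range p, (e ^ j) ^ k = 0 := by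
        rw [← h1.geom_sum_eq_zero hp.one_lt]
        exact Finset.sum_congr rfl fun j _ => by rw [← pow_mul, ← pow_mul, mul_comm]
      rw [h2, zero_smul]
    · intro h
      exact absurd (Finset.mem_range.2 hp.pos) h
  obtain ⟨j, -, hj⟩ : ∃ j ∈ Finset.range p, w j ≠ 0 := by
    by_contra hcon
    push Not at hcon
    rw [Finset.sum_eq_zero hcon] at hsum
    rcases smul_eq_zero.1 hsum.symm with h1 | h1
    · exact hpF h1
    · exact hv h1
  refine ⟨w j, hj, hww j, (e ^ j)⁻¹, ?_, ?_⟩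
  · rw [inv_pow, ← mul_inv, hnorm, inv_one]
  · conv_rhs => rw [← hBw j, smul_smul, inv_mul_cancel₀ (hej j), one_smul]

end Eig

section Diag

variable {F : Type*} [Field F] [Fintype F] {q n : ℕ}

omit [Fintype F] in
/-- An orthogonal family of non-isotropic vectors is independent. -/
theorem indep_of_orth {B : GU n F q} {p : ℕ} {v : Fin n → F}
    (ha : hermForm n F q v v ≠ 0)
    (ho : ∀ i j, i < p → j < p → i ≠ j → hermForm n F q (gm B ^ i *ᵥ v) (gm B ^ j *ᵥ v) = 0) (c : ℕ → F)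
    (h : ∑ i ∈ Finset.range p, c i • (gm B ^ i *ᵥ v) = 0) : ∀ i < p, c i = 0 := by
  intro j hj
  have h1 := congrArg (fun x => hermForm n F q x (gm B ^ j *ᵥ v)) h
  simp only [herm_zero_left] at h1
  rw [herm_sum_left, Finset.sum_eq_single j] at h1
  · rw [herm_smul_left, herm_pow] at h1
    exact (mul_eq_zero.1 h1).resolve_right ha
  · intro i hi hij
    rw [herm_smul_left, ho i j (Finset.mem_range.1 hi) hj hij, mul_zero]
  · intro h2
    exact absurd (Finset.mem_range.2 hj) h2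

/-- The element `D = diag (e ^ i)`. -/
theorem exists_D (hF : Fintype.card F = q ^ 2) (hn : n.Prime) (hn2 : Odd n) {e : F} (he : IsPrimitiveRoot e n)
    (heq : e * e ^ q = 1) {l : F} {B : GU n F q} (hB : gm B ^ n = l • (1 : Matrix (Fin n) (Fin n) F))
    {v : Fin n → F} (ha : hermForm n F q v v ≠ 0)
    (ho : ∀ i j, i < n → j < n → i ≠ j → hermForm n F q (gm B ^ i *ᵥ v) (gm B ^ j *ᵥ v) = 0) :
    ∃ D : SU n F q, ∀ x, act D (gm B *ᵥ x) = e • (gm B *ᵥ act D x) := by
  classical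
  have hli : LinearIndependent F (fun i : Fin n => gm B ^ (i : ℕ) *ᵥ v) := by
    rw [Fintype.linearIndependent_iff]
    intro g hg i
    have h1 := indep_of_orth ha ho (fun k => if hk : k < n then g ⟨k, hk⟩ else 0) (by
      rw [Finset.sum_range]
      rw [← hg]
      refine Finset.sum_congr rfl fun i _ => ?_
      simp only [i.2, dif_pos]) i i.2
    simpa using h1
  haveI : Nonempty (Fin n) := ⟨⟨0, hn.pos⟩⟩
  let b : Module.Basis (Fin n) F (Fin n → F) := basisOfLinearIndependentOfCardEqFinrank hli (by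
    rw [Fintype.card_fin, Module.finrank_fintype_fun_eq_card, Fintype.card_fin])
  have hb : ∀ i : Fin n, b i = gm B ^ (i : ℕ) *ᵥ v := by
    intro i
    simp [b]
  let L : (Fin n → F) →ₗ[F] (Fin n → F) := b.constr F (fun i => e ^ (i : ℕ) • b i)
  have hL : ∀ i, L (b i) = e ^ (i : ℕ) • b i := fun i => b.constr_basis F _ i
  have hbb : ∀ i j, hermForm n F q (b i) (b j) = if i = j then hermForm n F q v v else 0 := by
    intro i j
    rw [hb, hb]
    split_ifs with hij
    · rw [hij, herm_pow]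
    · exact ho _ _ i.2 j.2 (fun h => hij (Fin.ext h))
  have hnorm : ∀ j : ℕ, e ^ j * (e ^ j) ^ q = 1 := by
    intro j
    rw [← pow_mul, mul_comm j q, pow_mul, ← mul_pow, heq, one_pow]
  let T : Matrix (Fin n) (Fin n) F := LinearMap.toMatrix' L
  have hT : ∀ x, T *ᵥ x = L x := by
    intro x
    rw [← Matrix.toLin'_apply, Matrix.toLin'_toMatrix']
  have hTh : ∀ x y, hermForm n F q (T *ᵥ x) (T *ᵥ y) = hermForm n F q x y := by
    intro x y
    rw [hT, hT]
    have hx : L x = ∑ i, b.repr x i • e ^ (i : ℕ) • b i := by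
      conv_lhs => rw [← b.sum_repr x]
      rw [map_sum]
      exact Finset.sum_congr rfl fun i _ => by rw [map_smul, hL]
    have hy : L y = ∑ i, b.repr y i • e ^ (i : ℕ) • b i := by
      conv_lhs => rw [← b.sum_repr y]
      rw [map_sum]
      exact Finset.sum_congr rfl fun i _ => by rw [map_smul, hL]
    conv_rhs => rw [← b.sum_repr x, ← b.sum_repr y]
    rw [hx, hy, herm_sum_left, herm_sum_left]
    refine Finset.sum_congr rfl fun i _ => ?_
    rw [herm_sum_right hF, herm_sum_right hF]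
    refine Finset.sum_congr rfl fun j _ => ?_
    rw [herm_smul_left, herm_smul_left, herm_smul_right, herm_smul_right, herm_smul_left, herm_smul_right, hbb]
    split_ifs with hij
    · subst hij
      have := hnorm i
      linear_combination (b.repr x i * (b.repr y i) ^ q * hermForm n F q v v) * this
    · simp
  have hdet : T.det = 1 := by
    have h1 : LinearMap.toMatrix b b L = Matrix.diagonal (fun i : Fin n => e ^ (i : ℕ)) := by
      ext i j
      rw [LinearMap.toMatrix_apply, hL, map_smul, Module.Basis.repr_self, Matrix.diagonal_apply, Finsupp.smul_apply,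
        Finsupp.single_apply]
      by_cases hij : i = j
      · subst hij
        simp
      · rw [if_neg hij, if_neg (Ne.symm hij), smul_zero]
    rw [LinearMap.det_toMatrix', ← LinearMap.det_toMatrix b, h1, Matrix.det_diagonal,
      Finset.prod_pow_eq_pow_sum]
    obtain ⟨m, hm⟩ := hn2
    have h2 : ∑ i : Fin n, (i : ℕ) = n * m := by
      have h3 := Finset.sum_range_id_mul_two n
      rw [Finset.sum_range] at h3
      rw [hm] at h3 ⊢
      simp only [Nat.add_sub_cancel] at h3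
      nlinarith
    rw [h2, pow_mul, he.pow_eq_one, one_pow]
  refine ⟨mkSU T hdet hTh, ?_⟩
  have key : L ∘ₗ (gm B).mulVecLin = e • ((gm B).mulVecLin ∘ₗ L) := by
    apply b.ext
    intro i
    rw [LinearMap.comp_apply, LinearMap.smul_apply, LinearMap.comp_apply, hL, mulVecLin_apply, mulVecLin_apply,
      mulVec_smul, smul_smul, ← pow_succ', hb, mulVec_mulVec, ← pow_succ']
    by_cases hi : (i : ℕ) + 1 < n
    · have h1 := hL ⟨(i : ℕ) + 1, hi⟩
      rw [hb] at h1
      exact h1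
    · have h1 : (i : ℕ) + 1 = n := by omega
      rw [h1, hB, he.pow_eq_one, one_smul, smul_mulVec, one_mulVec, map_smul]
      have h2 := hL ⟨0, hn.pos⟩
      rw [hb] at h2
      simp only [pow_zero, one_mulVec, one_smul] at h2
      rw [h2]
  intro x
  rw [act_def, act_def, mat_mkSU, hT, hT]
  exact LinearMap.congr_fun key x

end Diag

section Root

variable {F : Type*} [Field F] [Fintype F]

theorem fix_root {p : ℕ} (hp : p.Prime) {l m e : F} (hl0 : l ≠ 0) (hm0 : m ≠ 0) (hl : ∀ b : F, b ^ p ≠ l)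
    (he : e ^ p = 1) (σ : F ≃+* F) (h : l = m ^ p * σ l) : σ e = e := by
  have he0 : e ≠ 0 := by
    rintro rfl
    rw [zero_pow hp.pos.ne'] at he
    exact zero_ne_one he
  obtain ⟨k, hk⟩ := MonoidHom.map_cyclic (Units.map (σ : F →* F))
  have hk' : ∀ x : Fˣ, σ (x : F) = ((x ^ k : Fˣ) : F) := fun x => by rw [← hk x]; rfl
  have h1 : Units.mk0 l hl0 = Units.mk0 m hm0 ^ p * Units.mk0 l hl0 ^ k := by
    apply Units.ext
    have h2 := hk' (Units.mk0 l hl0)
    rw [Units.val_mk0] at h2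
    rw [Units.val_mul, Units.val_pow_eq_pow_val, ← h2]
    exact h
  have h2 : Units.mk0 e he0 ^ (p : ℤ) = 1 := by
    apply Units.ext
    rw [zpow_natCast, Units.val_pow_eq_pow_val]
    exact he
  have h3 : Units.mk0 e he0 ^ k = Units.mk0 e he0 := by
    by_cases hd : (p : ℤ) ∣ 1 - k
    · obtain ⟨t, ht⟩ := hd
      have h4 : k = 1 - p * t := by linarith
      rw [h4, _root_.zpow_sub, zpow_one, _root_.zpow_mul, h2, _root_.one_zpow, inv_one, mul_one]
    · exfalso
      obtain ⟨a, b, hab⟩ := (Prime.coprime_iff_not_dvd (Nat.prime_iff_prime_int.1 hp)).2 hd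
      have h5 : Units.mk0 l hl0 ^ (1 - k) = Units.mk0 m hm0 ^ (p : ℤ) := by
        rw [_root_.zpow_sub, zpow_one, zpow_natCast]
        exact mul_inv_eq_of_eq_mul h1
      have h6 : Units.mk0 l hl0 = (Units.mk0 l hl0 ^ a * Units.mk0 m hm0 ^ b) ^ p := by
        have h7 : (Units.mk0 l hl0 ^ a * Units.mk0 m hm0 ^ b) ^ (p : ℤ) = Units.mk0 l hl0 := by
          rw [_root_.mul_zpow, ← _root_.zpow_mul, ← _root_.zpow_mul, mul_comm b (p : ℤ),
            _root_.zpow_mul (Units.mk0 m hm0), ← h5, ← _root_.zpow_mul, ← _root_.zpow_add]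
          rw [show a * (p : ℤ) + (1 - k) * b = 1 by linarith [hab], zpow_one]
        rw [zpow_natCast] at h7
        exact h7.symm
      apply hl ((Units.mk0 l hl0 ^ a * Units.mk0 m hm0 ^ b : Fˣ) : F)
      rw [← Units.val_pow_eq_pow_val, ← h6]
      rfl
  have h4 := hk' (Units.mk0 e he0)
  rw [h3] at h4
  exact h4

end Root

section Quot

variable {F : Type*} [Field F] [Fintype F] {q n : ℕ}

/-- the semilinear map -/
def sm (C : GU n F q) (σ : F ≃+* F) (x : Fin n → F) : Fin n → F := gm C *ᵥ fun i => σ (x i)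

omit [Fintype F] in
theorem sm_smul (C : GU n F q) (σ : F ≃+* F) (c : F) (x : Fin n → F) : sm C σ (c • x) = σ c • sm C σ x := by
  rw [sm, sm, ← mulVec_smul]
  congr 1
  funext i
  simp

omit [Fintype F] in
theorem sm_surj (C : GU n F q) (σ : F ≃+* F) (y : Fin n → F) : ∃ x, sm C σ x = y := by
  refine ⟨fun i => σ.symm ((gm C⁻¹ *ᵥ y) i), ?_⟩
  rw [sm]
  have : (fun i => σ (σ.symm ((gm C⁻¹ *ᵥ y) i))) = gm C⁻¹ *ᵥ y := by
    funext i
    simp
  rw [this, gm_mulVec_inv]

omit [Fintype F] in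
theorem act_semi (C : GU n F q) (σ : F ≃+* F) (X : SU n F q) (x : Fin n → F) :
    act (semiConj C σ X) (sm C σ x) = sm C σ (act X x) := act_semiConj C σ X x

/-- Commuting automorphisms, `B` linear. -/
theorem commute_semi (hF : Fintype.card F = q ^ 2) (hn : 3 ≤ n) {B C : GU n F q} {σ : F ≃+* F}
    (h : toAut C σ * toAut B 1 = toAut B 1 * toAut C σ) :
    ∃ m : F, m * m ^ q = 1 ∧ ∀ x, gm B *ᵥ sm C σ x = m • sm C σ (gm B *ᵥ x) := by
  rw [toAut_mul, toAut_mul, mul_one, one_mul, Cfsg.Agent.CpAutU.Desc.mapGU_one] at h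
  obtain ⟨-, m, hm, h1⟩ := eq_of_toAut_eq hF hn h
  refine ⟨m, hm, fun x => ?_⟩
  rw [sm, mulVec_mulVec, ← gm_mul, h1, smul_mulVec, gm_mul, ← mulVec_mulVec, gm_mapGU, sm]

omit [Fintype F] in
theorem pow_semi {p : ℕ} {B C : GU n F q} {σ : F ≃+* F} {m : F}
    (h : ∀ x, gm B *ᵥ sm C σ x = m • sm C σ (gm B *ᵥ x)) (x : Fin n → F) :
    gm B ^ p *ᵥ sm C σ x = m ^ p • sm C σ (gm B ^ p *ᵥ x) := by
  induction p with
  | zero => rw [pow_zero, pow_zero, one_mulVec, one_mulVec, one_smul]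
  | succ k ih =>
    rw [pow_succ', ← mulVec_mulVec, ih, mulVec_smul, h, smul_smul, ← pow_succ, mulVec_mulVec]

/-- **The action of `A` on `C_S(z) / N`.** -/
theorem quot_step (hF : Fintype.card F = q ^ 2) (hn : 3 ≤ n) (h32 : ¬ (n = 3 ∧ q = 2)) {B : GU n F q} {p : ℕ}
    (hp : p.Prime) {l : F} (hl0 : l ≠ 0) (hl : ∀ b : F, b ^ p ≠ l)
    (hB : gm B ^ p = l • (1 : Matrix (Fin n) (Fin n) F)) {e : F} (he : e ^ p = 1) (he1 : e ≠ 1) {D : SU n F q}
    (hD : ∀ x, act D (gm B *ᵥ x) = e • (gm B *ᵥ act D x)) {A : Subgroup (MulAut (PSU n F q))}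
    (hA : ∀ a ∈ A, a * toAut B 1 = toAut B 1 * a) (hz1 : toAut B 1 ≠ 1)
    (quo : ∀ H N : Subgroup (PSU n F q), H ≠ ⊤ → (∀ a ∈ A, ∀ h ∈ H, a h ∈ H) → (∀ a ∈ A, ∀ x ∈ N, a x ∈ N) → N ≤ H →
      (∀ h ∈ H, ∀ x ∈ N, h * x * h⁻¹ ∈ N) → ∀ h ∈ H, (∀ a ∈ A, h⁻¹ * a h ∈ N) → h ∈ N) : False := by
  have he0 : e ≠ 0 := by
    rintro rfl
    rw [zero_pow hp.pos.ne'] at he
    exact zero_ne_one he
  have hBinj : ∀ x, gm B *ᵥ x = 0 → x = 0 := by
    intro x hx
    have := congrArg (fun y => gm B⁻¹ *ᵥ y) hx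
    simp only [gm_inv_mulVec, mulVec_zero] at this
    exact this
  -- elements commuting with `B` up to a scalar
  have K1 : ∀ X : SU n F q, toAut B 1 (pr n F q X) = pr n F q X →
      ∃ c : F, c ≠ 0 ∧ ∀ x, act X (gm B *ᵥ x) = c • (gm B *ᵥ act X x) := by
    intro X hX
    rw [toAut_pr'] at hX
    obtain ⟨c, hc, h1⟩ := exists_scalar_of_pr_eq hF hn hX
    refine ⟨c, ne_zero_of_norm hc, fun x => ?_⟩
    rw [h1, Cfsg.Agent.Schreier.PSU.act_semiConj_one]
  have K2 : ∀ (X : SU n F q) (c : F), (∀ x, act X (gm B *ᵥ x) = c • (gm B *ᵥ act X x)) →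
      toAut B 1 (pr n F q X) = pr n F q X := by
    intro X c h1
    rw [toAut_pr']
    refine pr_eq_of_scalar (c := c) fun x => ?_
    have hx : x = gm B *ᵥ (gm B⁻¹ *ᵥ x) := by rw [gm_mulVec_inv]
    rw [hx, h1, Cfsg.Agent.Schreier.PSU.act_semiConj_one]
  have Kinv : ∀ (X : SU n F q) (c : F), c ≠ 0 → (∀ x, act X (gm B *ᵥ x) = c • (gm B *ᵥ act X x)) →
      ∀ x, act X⁻¹ (gm B *ᵥ x) = c⁻¹ • (gm B *ᵥ act X⁻¹ x) := by
    intro X c hc h1 x
    have h2 := h1 (act X⁻¹ x)
    rw [act_act_inv] at h2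
    have h3 : gm B *ᵥ x = c⁻¹ • act X (gm B *ᵥ act X⁻¹ x) := by
      rw [h2, smul_smul, inv_mul_cancel₀ hc, one_smul]
    rw [h3, act_smul, act_inv_act]
  let H : Subgroup (PSU n F q) :=
    { carrier := {s | toAut B 1 s = s}
      one_mem' := map_one _
      mul_mem' := fun {a b} ha hb => by
        show toAut B 1 (a * b) = a * b
        rw [map_mul, show toAut B 1 a = a from ha, show toAut B 1 b = b from hb]
      inv_mem' := fun {a} ha => by
        show toAut B 1 a⁻¹ = a⁻¹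
        rw [map_inv, show toAut B 1 a = a from ha] }
  let CB : Subgroup (SU n F q) :=
    { carrier := {X | ∀ x, act X (gm B *ᵥ x) = gm B *ᵥ act X x}
      one_mem' := fun x => by rw [act_one, act_one]
      mul_mem' := fun {a b} ha hb x => by
        rw [act_mul, act_mul, show act b (gm B *ᵥ x) = _ from hb x, show act a _ = _ from ha _]
      inv_mem' := fun {a} ha x => by
        have := Kinv a 1 one_ne_zero (fun x => by rw [one_smul]; exact ha x) x
        rwa [inv_one, one_smul] at this }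
  have hCB : ∀ {X : SU n F q}, X ∈ CB ↔ ∀ x, act X (gm B *ᵥ x) = gm B *ᵥ act X x := Iff.rfl
  have hH : ∀ {s : PSU n F q}, s ∈ H ↔ toAut B 1 s = s := Iff.rfl
  have hHtop : H ≠ ⊤ := by
    intro h
    apply hz1
    ext s
    exact hH.1 (by rw [h]; trivial)
  -- the elements of `A`
  have hAs : ∀ a ∈ A, ∃ (C : GU n F q) (σ : F ≃+* F) (m : F), a = toAut C σ ∧ σ e = e ∧ m ≠ 0 ∧
      ∀ x, gm B *ᵥ sm C σ x = m • sm C σ (gm B *ᵥ x) := by
    intro a ha
    obtain ⟨C, σ, rfl⟩ := ClassicalGeometry.PSUAutMain.exists_toAut hF hn h32 a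
    obtain ⟨m, hm, h1⟩ := commute_semi hF hn (hA _ ha)
    refine ⟨C, σ, m, rfl, ?_, ne_zero_of_norm hm, h1⟩
    refine fix_root hp hl0 (ne_zero_of_norm hm) hl he σ ?_
    obtain ⟨x, hx⟩ := sm_surj C σ (fun _ => 1)
    have h2 := pow_semi (p := p) h1 x
    rw [hB, smul_mulVec, smul_mulVec, one_mulVec, one_mulVec, sm_smul, smul_smul, hx] at h2
    have h3 := congrFun h2 ⟨0, by omega⟩
    simpa using h3
  have hDH : pr n F q D ∈ H := hH.2 (K2 D e hD)
  have hres := quo H (CB.map (pr n F q)) hHtop (by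
    intro a ha s hs
    rw [hH] at hs ⊢
    have h1 := DFunLike.congr_fun (hA a ha) s
    rw [MulAut.mul_apply, MulAut.mul_apply, hs] at h1
    exact h1.symm) (by
    rintro a ha _ ⟨X, hX, rfl⟩
    obtain ⟨C, σ, m, rfl, -, hm, h1⟩ := hAs a ha
    refine ⟨semiConj C σ X, ?_, toAut_pr' C σ X⟩
    show semiConj C σ X ∈ CB
    rw [hCB]
    intro y
    obtain ⟨x, rfl⟩ := sm_surj C σ y
    rw [h1, act_smul, act_semi, act_semi, hCB.1 hX, ← h1]) (by
    rintro _ ⟨X, hX, rfl⟩
    exact hH.2 (K2 X 1 fun x => by rw [one_smul]; exact hCB.1 hX x)) (by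
    rintro h hh _ ⟨X, hX, rfl⟩
    obtain ⟨Y, rfl⟩ := pr_surjective h
    obtain ⟨c, hc, h1⟩ := K1 Y (hH.1 hh)
    refine ⟨Y * X * Y⁻¹, ?_, by rw [map_mul, map_mul, map_inv]⟩
    show Y * X * Y⁻¹ ∈ CB
    rw [hCB]
    intro x
    rw [act_mul, act_mul, act_mul, act_mul, Kinv Y c hc h1, act_smul, act_smul, hCB.1 hX, h1, smul_smul,
      inv_mul_cancel₀ hc, one_smul]) (pr n F q D) hDH (by
    intro a ha
    obtain ⟨C, σ, m, rfl, hσ, hm, h1⟩ := hAs a ha
    refine ⟨D⁻¹ * semiConj C σ D, ?_, by rw [map_mul, map_inv, toAut_pr']⟩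
    show D⁻¹ * semiConj C σ D ∈ CB
    rw [hCB]
    intro y
    obtain ⟨x, rfl⟩ := sm_surj C σ y
    rw [act_mul, act_mul, act_semi, h1, act_smul, act_semi, hD, sm_smul, hσ, smul_comm m e, act_smul, ← h1,
      Kinv D e he0 hD, smul_smul, mul_inv_cancel₀ he0, one_smul])
  obtain ⟨X, hX, hXD⟩ := hres
  obtain ⟨c, hc, h1⟩ := exists_scalar_of_pr_eq hF hn hXD
  have h2 : ∀ x, act D (gm B *ᵥ x) = gm B *ᵥ act D x := by
    intro x
    rw [h1, h1, show act X (gm B *ᵥ x) = _ from hCB.1 hX x, mulVec_smul]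
  obtain ⟨x, hx⟩ : ∃ x : Fin n → F, x ≠ 0 := ⟨fun _ => 1, fun h => one_ne_zero (congrFun h ⟨0, by omega⟩)⟩
  have h3 : (e - 1) • (gm B *ᵥ act D x) = 0 := by rw [sub_smul, one_smul, ← hD, h2, sub_self]
  rcases smul_eq_zero.1 h3 with h4 | h4
  · exact he1 (sub_eq_zero.1 h4)
  · exact hx ((act_eq_zero D).1 (hBinj _ h4))

end Quot

section Linear

theorem pth {G : Type*} [CommGroup G] {p m : ℕ} (hp : p.Prime) (hm : ¬ p ∣ m) {l c : G} (h : l ^ m = c ^ p) :
    ∃ b : G, b ^ p = l := by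
  have hm' : ¬ (p : ℤ) ∣ m := fun h1 => hm (Int.natCast_dvd_natCast.1 h1)
  obtain ⟨a, b, hab⟩ := (Prime.coprime_iff_not_dvd (Nat.prime_iff_prime_int.1 hp)).2 hm'
  refine ⟨l ^ a * c ^ b, ?_⟩
  have h1 : (l ^ a * c ^ b) ^ (p : ℤ) = l := by
    rw [_root_.mul_zpow, ← _root_.zpow_mul, ← _root_.zpow_mul, mul_comm b (p : ℤ), _root_.zpow_mul c, zpow_natCast c,
      ← h, ← zpow_natCast l m, ← _root_.zpow_mul, ← _root_.zpow_add]
    rw [show a * (p : ℤ) + (m : ℤ) * b = 1 by linarith [hab], zpow_one]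
  rw [zpow_natCast] at h1
  exact h1

/-- norm one units -/
def U1 (F : Type*) [Field F] (q : ℕ) : Subgroup Fˣ where
  carrier := {u | u * u ^ q = 1}
  one_mem' := by simp
  mul_mem' {a b} ha hb := by
    show (a * b) * (a * b) ^ q = 1
    rw [mul_pow, mul_mul_mul_comm, show a * a ^ q = 1 from ha, show b * b ^ q = 1 from hb, one_mul]
  inv_mem' {a} ha := by
    show a⁻¹ * (a⁻¹) ^ q = 1
    rw [inv_pow, ← mul_inv, show a * a ^ q = 1 from ha, inv_one]

variable {F : Type*} [Field F] {q n : ℕ}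

/-- as a norm one unit -/
def toU1 (c : F) (hc : c * c ^ q = 1) : ↥(U1 F q) :=
  ⟨Units.mk0 c (ne_zero_of_norm hc), Units.ext hc⟩

theorem coe_toU1 (c : F) (hc : c * c ^ q = 1) : ((toU1 c hc : Fˣ) : F) = c := rfl

theorem U1_norm (u : ↥(U1 F q)) : ((u : Fˣ) : F) * ((u : Fˣ) : F) ^ q = 1 := by
  have h : (u : Fˣ) * (u : Fˣ) ^ q = 1 := u.2
  have h1 := congrArg (fun x : Fˣ => (x : F)) h
  simpa using h1

theorem inner_of_det {B : GU n F q} (h : (gm B).det = 1) : ∃ g : PSU n F q, toAut B 1 = MulAut.conj g :=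
  ⟨pr n F q (mkSU (gm B) h (fun u v => herm_gm _ u v)), f₁_eq_conj B _ rfl⟩

variable [Fintype F]

theorem det_norm (hF : Fintype.card F = q ^ 2) (B : GU n F q) : (gm B).det * (gm B).det ^ q = 1 := by
  rw [← pow_succ']
  exact Cfsg.Agent.LieClassical.GUOrder.det_mul_frob_det hF _ (fun u v => herm_gm B u v)

theorem exists_v1 (hF : Fintype.card F = q ^ 2) {p : ℕ} (hp : p.Prime) (hp2 : p ≠ 2) (hn : 2 * p ≤ n) {B : GU n F q}
    {l : F} (hB : gm B ^ p = l • (1 : Matrix (Fin n) (Fin n) F)) : ∃ v : Fin n → F, v ≠ 0 ∧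
      ∀ i j, i < p → j < p → hermForm n F q (gm B ^ i *ᵥ v) (gm B ^ j *ᵥ v) = 0 := by
  have hodd := hp.odd_of_ne_two hp2
  have h2 := hp.two_le
  obtain ⟨v, hv, h0⟩ := exists_zero hF B (m := (p + 1) / 2) (fun i => (i : ℕ)) (by
    obtain ⟨m, rfl⟩ := hodd
    omega)
  refine ⟨v, hv, fun i j hi hj => ?_⟩
  by_cases hij : i = j
  · subst hij
    rw [herm_pow]
    have := h0 ⟨0, by omega⟩
    simpa using this
  · refine orth2 hF (fun k h1 hk => orth hF hodd hB (fun k h1 hk => ?_) k h1 hk) hi hj hij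
    exact h0 ⟨k, by omega⟩

theorem exists_v2 (hF : Fintype.card F = q ^ 2) (hn : n.Prime) (hn2 : n ≠ 2) {B : GU n F q}
    {l : F} (hB : gm B ^ n = l • (1 : Matrix (Fin n) (Fin n) F)) : ∃ v : Fin n → F, v ≠ 0 ∧
      ∀ i j, i < n → j < n → i ≠ j → hermForm n F q (gm B ^ i *ᵥ v) (gm B ^ j *ᵥ v) = 0 := by
  have hodd := hn.odd_of_ne_two hn2
  have h2 := hn.two_le
  obtain ⟨v, hv, h0⟩ := exists_zero hF B (m := (n - 1) / 2) (fun i => (i : ℕ) + 1) (by omega)
  refine ⟨v, hv, fun i j hi hj hij => ?_⟩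
  refine orth2 hF (fun k h1 hk => orth hF hodd hB (fun k h1 hk => ?_) k h1 hk) hi hj hij
  have := h0 ⟨k - 1, by omega⟩
  simpa [Nat.sub_add_cancel h1] using this

/-- The vector with an orthogonal orbit. -/
theorem get_v (hF : Fintype.card F = q ^ 2) (hn : 3 ≤ n) {p : ℕ} (hp : p.Prime) (hp2 : p ≠ 2) (hpn : p ∣ n)
    {B : GU n F q} {l : F} (hB : gm B ^ p = l • (1 : Matrix (Fin n) (Fin n) F))
    (hiso : ∀ v : Fin n → F, v ≠ 0 →
      ¬ ∀ i j, i < p → j < p → hermForm n F q (gm B ^ i *ᵥ v) (gm B ^ j *ᵥ v) = 0) :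
    n = p ∧ ∃ v : Fin n → F, hermForm n F q v v ≠ 0 ∧
      ∀ i j, i < n → j < n → i ≠ j → hermForm n F q (gm B ^ i *ᵥ v) (gm B ^ j *ᵥ v) = 0 := by
  have hnp : n = p := by
    by_contra hne
    obtain ⟨k, hk⟩ := hpn
    have h2 : 2 * p ≤ n := by
      have h1 : k ≠ 0 := by rintro rfl; omega
      have h3 : k ≠ 1 := by rintro rfl; omega
      have h4 : 2 ≤ k := by omega
      calc 2 * p ≤ k * p := Nat.mul_le_mul_right p h4
        _ = n := by rw [hk, mul_comm]
    obtain ⟨v, hv, h0⟩ := exists_v1 hF hp hp2 h2 hB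
    exact hiso v hv h0
  subst hnp
  obtain ⟨v, hv, h0⟩ := exists_v2 hF hp hp2 hB
  refine ⟨rfl, v, fun ha => hiso v hv fun i j hi hj => ?_, h0⟩
  by_cases hij : i = j
  · subst hij
    rw [herm_pow, ha]
  · exact h0 i j hi hj hij

theorem hiso_of_nonpow (hF : Fintype.card F = q ^ 2) (hn : 3 ≤ n) {r : ℕ} [CharP F r] {B : GU n F q}
    (hfix : ∀ s : PSU n F q, toAut B 1 s = s → s ^ r = 1 → s = 1) {p : ℕ} (hp : p.Prime) {l : F} (hlq : l * l ^ q = 1)
    (hl : ∀ b : F, b ^ p ≠ l) (hB : gm B ^ p = l • (1 : Matrix (Fin n) (Fin n) F)) (v : Fin n → F) (hv : v ≠ 0) :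
    ¬ ∀ i j, i < p → j < p → hermForm n F q (gm B ^ i *ᵥ v) (gm B ^ j *ᵥ v) = 0 := by
  intro h0
  have h1 := nilp hF hn hfix (fun i : Fin p => gm B ^ (i : ℕ) *ᵥ v) (fun i j => h0 i j i.2 j.2) (by
    intro x
    rw [mulVec_sum]
    rw [Fin.sum_univ_eq_sum_range (fun i => hermForm n F q (gm B *ᵥ x) (gm B ^ i *ᵥ v) • (gm B ^ i *ᵥ v)) p,
      Fin.sum_univ_eq_sum_range (fun i => gm B *ᵥ (hermForm n F q x (gm B ^ i *ᵥ v) • (gm B ^ i *ᵥ v))) p]
    have h2 : ∀ i, gm B *ᵥ (hermForm n F q x (gm B ^ i *ᵥ v) • (gm B ^ i *ᵥ v)) =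
        hermForm n F q (gm B *ᵥ x) (gm B ^ (i + 1) *ᵥ v) • (gm B ^ (i + 1) *ᵥ v) := by
      intro i
      rw [mulVec_smul, pow_succ', ← mulVec_mulVec, herm_gm]
    simp only [h2]
    have h3 := Finset.sum_range_succ' (fun i => hermForm n F q (gm B *ᵥ x) (gm B ^ i *ᵥ v) • (gm B ^ i *ᵥ v)) p
    rw [Finset.sum_range_succ] at h3
    have h4 : hermForm n F q (gm B *ᵥ x) (gm B ^ p *ᵥ v) • (gm B ^ p *ᵥ v) =
        hermForm n F q (gm B *ᵥ x) (gm B ^ 0 *ᵥ v) • (gm B ^ 0 *ᵥ v) := by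
      rw [hB, smul_mulVec, one_mulVec, pow_zero, one_mulVec, herm_smul_right, smul_smul]
      congr 1
      linear_combination (hermForm n F q (gm B *ᵥ x) v) * hlq
    rw [h4] at h3
    exact add_right_cancel h3)
  obtain ⟨x, hx⟩ := exists_herm_ne_zero hF hv
  have h2 := h1 x
  rw [Fin.sum_univ_eq_sum_range (fun i => hermForm n F q x (gm B ^ i *ᵥ v) • (gm B ^ i *ᵥ v)) p] at h2
  have h3 := indep hp hl hB hv _ h2 0 hp.pos
  rw [pow_zero, one_mulVec] at h3
  first
  | exact hx h3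
  | exact hx (herm_eq_zero_swap hF h3)

/-- **`z ^ p = 1` lifts.** -/
theorem case_a (hF : Fintype.card F = q ^ 2) (hn : 3 ≤ n) {r : ℕ} [CharP F r] {B : GU n F q}
    (hfix : ∀ s : PSU n F q, toAut B 1 s = s → s ^ r = 1 → s = 1) {p : ℕ} (hp : p.Prime) (hp2 : p ≠ 2)
    (hpF : (p : F) ≠ 0) (hB : gm B ^ p = 1) (hno : ¬ ∃ g : PSU n F q, toAut B 1 = MulAut.conj g) : False := by
  haveI : Fact p.Prime := ⟨hp⟩
  have hd1 : (gm B).det ≠ 1 := fun h => hno (inner_of_det h)
  have hdp : (gm B).det ^ p = 1 := by rw [← det_pow, hB, det_one]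
  have hdq := det_norm hF B
  have he : IsPrimitiveRoot (gm B).det p := by
    have := IsPrimitiveRoot.orderOf (gm B).det
    rwa [orderOf_eq_prime hdp hd1] at this
  have hpn : p ∣ n := by
    by_contra hpn
    obtain ⟨m, -, hm⟩ := Nat.exists_mul_mod_eq_one_of_coprime
      (Nat.Coprime.symm ((Nat.Prime.coprime_iff_not_dvd hp).2 hpn)) hp.one_lt
    have hc' : ∀ j : ℕ, (gm B).det ^ j * ((gm B).det ^ j) ^ q = 1 := by
      intro j
      rw [← pow_mul, mul_comm j q, pow_mul, ← mul_pow, hdq, one_pow]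
    have hc := hc' (m * (p - 1))
    apply hno
    rw [← toAut_sc_mul ⟨_, hc⟩ B 1]
    apply inner_of_det
    rw [gm_sc_mul, det_smul, Fintype.card_fin, ← pow_mul, ← pow_succ]
    have h1 : p ∣ m * (p - 1) * n + 1 := by
      have h2 := Nat.div_add_mod (n * m) p
      rw [hm] at h2
      obtain ⟨t, rfl⟩ : ∃ t, p = t + 1 := ⟨p - 1, by have := hp.one_lt; omega⟩
      refine ⟨t * (n * m / (t + 1)) + 1, ?_⟩
      generalize n * m / (t + 1) = k at h2 ⊢
      rw [Nat.add_sub_cancel, show m * t * n = t * (n * m) by ring, ← h2]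
      ring
    obtain ⟨t, ht⟩ := h1
    rw [ht, pow_mul, hdp, one_pow]
  have hB' : gm B ^ p = (1 : F) • (1 : Matrix (Fin n) (Fin n) F) := by rw [one_smul, hB]
  obtain ⟨rfl, v, ha, ho⟩ := get_v hF hn hp hp2 hpn hB' (by
    intro v hv h0
    obtain ⟨w, hw, hww, c, hc, hBc⟩ := exists_eig hF hp he hdq hpF hB hv h0
    exact no_eig hF hn hfix hw hww hc hBc)
  exact hd1 (det_eq (hp.odd_of_ne_two hp2) hB' (indep_of_orth ha ho))

/-- A linear automorphism of odd prime order `p` with no fixed points of order `r`. -/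
theorem lin_case (hF : Fintype.card F = q ^ 2) (hn : 3 ≤ n) (h32 : ¬ (n = 3 ∧ q = 2)) {r : ℕ} [CharP F r]
    {B : GU n F q} (hfix : ∀ s : PSU n F q, toAut B 1 s = s → s ^ r = 1 → s = 1) {p : ℕ} (hp : p.Prime) (hp2 : p ≠ 2)
    (hpF : (p : F) ≠ 0) (hz : toAut B 1 ^ p = 1) (hno : ¬ ∃ g : PSU n F q, toAut B 1 = MulAut.conj g)
    {A : Subgroup (MulAut (PSU n F q))} (hA : ∀ a ∈ A, a * toAut B 1 = toAut B 1 * a)
    (quo : ∀ H N : Subgroup (PSU n F q), H ≠ ⊤ → (∀ a ∈ A, ∀ h ∈ H, a h ∈ H) → (∀ a ∈ A, ∀ x ∈ N, a x ∈ N) → N ≤ H →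
      (∀ h ∈ H, ∀ x ∈ N, h * x * h⁻¹ ∈ N) → ∀ h ∈ H, (∀ a ∈ A, h⁻¹ * a h ∈ N) → h ∈ N) : False := by
  haveI : Fact p.Prime := ⟨hp⟩
  obtain ⟨-, l, hlq, hl⟩ := exists_scalar hF hn hz
  have hB : gm B ^ p = l • (1 : Matrix (Fin n) (Fin n) F) := by
    have h1 : ∀ k : ℕ, ∀ v, (Cfsg.Agent.CpAut.Psl.perm (B : GL (Fin n) F) 1 ^ k) v = gm B ^ k *ᵥ v := by
      intro k
      induction k with
      | zero => intro v; rw [pow_zero, pow_zero, one_mulVec]; rfl
      | succ k ih =>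
        intro v
        rw [pow_succ, Equiv.Perm.mul_apply, ih, pow_succ, ← mulVec_mulVec]
        rfl
    apply Matrix.ext_of_mulVec_single
    intro i
    rw [← h1, hl, Matrix.smul_mulVec, one_mulVec]
  have hl0 := ne_zero_of_norm hlq
  by_cases hpow : ∃ b : ↥(U1 F q), b ^ p = toU1 l hlq
  · obtain ⟨b, hb⟩ := hpow
    have hb' : ((b : Fˣ) : F) ^ p = l := by
      have := congrArg (fun x : ↥(U1 F q) => ((x : Fˣ) : F)) hb
      simpa [coe_toU1] using this
    have hbn := U1_norm b⁻¹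
    have he : toAut (sc n ⟨_, hbn⟩ * B) 1 = toAut B 1 := toAut_sc_mul ⟨_, hbn⟩ B 1
    refine case_a hF hn (B := sc n ⟨_, hbn⟩ * B) (by rw [he]; exact hfix) hp hp2 hpF ?_ (by rw [he]; exact hno)
    have hb0 : ((b : Fˣ) : F) ≠ 0 := Units.ne_zero _
    rw [gm_sc_mul, smul_pow, hB, ← hb', smul_smul, ← mul_pow]
    simp
  · -- `l` is not a `p`-th power
    have hpq : p ∣ q + 1 := by
      by_contra hd
      apply hpow
      refine pth hp hd (c := 1) ?_
      rw [one_pow, pow_succ']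
      apply Subtype.ext
      exact (toU1 l hlq).2
    have hpq' : ¬ p ∣ q - 1 := by
      intro h
      have h1 := two_le hF
      have h2 : p ∣ 2 := by
        have := Nat.dvd_sub hpq h
        rwa [show q + 1 - (q - 1) = 2 by omega] at this
      exact hp2 ((Nat.prime_dvd_prime_iff_eq hp Nat.prime_two).1 h2)
    have hlF : ∀ b : F, b ^ p ≠ l := by
      intro b hb
      have hb0 : b ≠ 0 := by
        rintro rfl
        rw [zero_pow hp.pos.ne'] at hb
        exact hl0 hb.symm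
      have h1 : (b * b ^ q) ^ p = 1 := by
        rw [mul_pow, ← pow_mul, mul_comm q p, pow_mul, hb, hlq]
      have h2 : (b * b ^ q) ^ (q - 1) = 1 := by
        have h3 := norm_pow_q hF b
        have h4 : b * b ^ q ≠ 0 := mul_ne_zero hb0 (pow_ne_zero _ hb0)
        have h5 : (b * b ^ q) ^ (q - 1) * (b * b ^ q) = 1 * (b * b ^ q) := by
          rw [← pow_succ, Nat.sub_add_cancel (q_pos hF), h3, one_mul]
        exact mul_right_cancel₀ h4 h5
      have h3 : b * b ^ q = 1 := by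
        have h4 := Nat.dvd_gcd (orderOf_dvd_of_pow_eq_one h1) (orderOf_dvd_of_pow_eq_one h2)
        rw [(Nat.Prime.coprime_iff_not_dvd hp).2 hpq', Nat.dvd_one, orderOf_eq_one_iff] at h4
        exact h4
      apply hpow
      refine ⟨toU1 b h3, ?_⟩
      apply Subtype.ext
      apply Units.ext
      exact hb
    have hiso := fun v hv => hiso_of_nonpow hF hn hfix hp hlq hlF hB v hv
    have hpn : p ∣ n := by
      by_contra hd
      obtain ⟨b, hb⟩ := pth (G := ↥(U1 F q)) hp hd (l := toU1 l hlq) (c := toU1 (gm B).det (det_norm hF B)) (by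
        apply Subtype.ext
        apply Units.ext
        have h1 := congrArg Matrix.det hB
        rw [det_pow, det_smul, Fintype.card_fin, det_one, mul_one] at h1
        simpa [coe_toU1] using h1.symm)
      exact hpow ⟨b, hb⟩
    obtain ⟨e, he⟩ : ∃ e : Fˣ, orderOf e = p := by
      apply exists_prime_orderOf_dvd_card' p
      rw [card_units_eq hF]
      exact Dvd.dvd.mul_right hpq _
    have heq : (e : F) * (e : F) ^ q = 1 := by
      rw [← pow_succ', ← Units.val_pow_eq_pow_val, orderOf_dvd_iff_pow_eq_one.1 (by rw [he]; exact hpq)]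
      rfl
    have hep : IsPrimitiveRoot (e : F) p := by
      rw [← he]
      exact IsPrimitiveRoot.coe_units_iff.2 (IsPrimitiveRoot.orderOf e)
    obtain ⟨rfl, v, ha, ho⟩ := get_v hF hn hp hp2 hpn hB hiso
    obtain ⟨D, hD⟩ := exists_D hF hp (hp.odd_of_ne_two hp2) hep heq hB ha ho
    refine quot_step hF hn h32 hp hl0 hlF hB hep.pow_eq_one (hep.ne_one hp.one_lt) hD hA ?_ quo
    intro h1
    exact hno ⟨1, by rw [h1, map_one]⟩

end Linear

section Field

variable {F : Type*} [Field F] [Fintype F] {q n : ℕ}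

/-- A nonlinear automorphism of odd prime order fixes an element of order `r`. -/
theorem field_case (hF : Fintype.card F = q ^ 2) (hn : 3 ≤ n) {r : ℕ} (hr : r.Prime) [CharP F r] {B : GU n F q}
    {ρ : F ≃+* F} (hρ : ρ ≠ 1) {p : ℕ} (hp : p.Prime) (hp2 : p ≠ 2) (hz : toAut B ρ ^ p = 1)
    (hfix : ∀ s : PSU n F q, toAut B ρ s = s → s ^ r = 1 → s = 1) : False := by
  obtain ⟨hord, M, hM⟩ := exists_conj hF hn hp hp2 hz hρ
  obtain ⟨s, hs2, hs, hq⟩ := Cfsg.Agent.CpAutU.Fld.exists_s' hF hord (hp.odd_of_ne_two hp2)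
  have hpow : ∀ a ∈ fixf ρ, a ^ q = a ^ s := fun a ha => Cfsg.Agent.CpAutU.Fld.pow_q (hp.odd_of_ne_two hp2) hs hq ha
  letI : Fintype ↥(fixf ρ) := Fintype.ofFinite _
  have hF₀ : Fintype.card ↥(fixf ρ) = s ^ 2 := by rw [← Nat.card_eq_fintype_card, hs]
  haveI : CharP ↥(fixf ρ) r := (RingHom.charP_iff (fixf ρ).subtype (fixf ρ).subtype.injective r).2 inferInstance
  haveI : Fact r.Prime := ⟨hr⟩
  obtain ⟨v, hv, h0⟩ := exists_zero hF₀ (n := n) 1 (m := 1) (fun _ => 0) (by omega)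
  have h0 : hermForm n ↥(fixf ρ) s v v = 0 := by
    have := h0 0
    rwa [pow_zero, one_mulVec] at this
  obtain ⟨t, ht⟩ : ∃ t : SU n ↥(fixf ρ) s, t = ClassicalGeometry.UnitAutBasic.T hF₀ v := ⟨_, rfl⟩
  have ht1 : t ≠ 1 := by rw [ht]; exact ClassicalGeometry.UnitAutBasic.T_ne_one hF₀ h0 hv
  have htk : ∀ (k : ℕ) x, act (t ^ k) x = x + ((k : ↥(fixf ρ)) * (ClassicalGeometry.UnitAutBasic.c0 hF₀ *
      hermForm n ↥(fixf ρ) s x v)) • v := by
    intro k
    induction k with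
    | zero => intro x; rw [pow_zero, act_one, Nat.cast_zero, zero_mul, zero_smul, add_zero]
    | succ k ih =>
      intro x
      rw [pow_succ, act_mul, ih, ht, ClassicalGeometry.UnitAutBasic.act_T hF₀ h0, herm_add_left, herm_smul_left, h0, mul_zero, add_zero]
      push_cast
      module
  have htr : t ^ r = 1 := by
    apply ext_act
    intro x
    rw [htk, CharP.cast_eq_zero, zero_mul, zero_smul, add_zero, act_one]
  obtain ⟨U, hU⟩ : ∃ U : SU n F q, U = Cfsg.Agent.CpAutU.Fixed.embSU hF hpow t := ⟨_, rfl⟩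
  have hUr : U ^ r = 1 := by rw [hU, ← map_pow, htr, map_one]
  have hU1 : U ≠ 1 := by
    intro h
    apply ht1
    apply Cfsg.Agent.CpAutU.Fixed.embSU_injective hF hpow
    rw [← hU, h, map_one]
  have hUf : toAut 1 ρ (pr n F q U) = pr n F q U := by
    rw [toAut_pr', hU, Cfsg.Agent.CpAutU.Fixed.semiConj_embSU]
  have h1 := hfix (toAut M 1 (pr n F q U)) (by
    rw [hM, MulAut.mul_apply, MulAut.mul_apply, MulAut.inv_apply_self, hUf]) (by
    rw [← map_pow, ← map_pow, hUr, map_one, map_one])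
  have h2 : pr n F q U = 1 := (map_eq_one_iff _ (toAut M 1).injective).1 h1
  obtain ⟨d, -, hd⟩ := exists_scalar_of_pr_eq hF hn (g := 1) (g' := U) (by rw [h2, map_one])
  simp only [act_one] at hd
  have hdk : ∀ (k : ℕ) x, act (U ^ k) x = d ^ k • x := by
    intro k
    induction k with
    | zero => intro x; rw [pow_zero, act_one, pow_zero, one_smul]
    | succ k ih => intro x; rw [pow_succ, act_mul, hd, ih, smul_smul, pow_succ]
  have hd1 : d ^ r = 1 := by
    have h3 := hdk r (fun _ => 1)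
    rw [hUr, act_one] at h3
    have h4 := congrFun h3 ⟨0, by omega⟩
    simpa using h4.symm
  have hd2 : d = 1 := by
    apply frobenius_inj F r
    show d ^ r = 1 ^ r
    rw [hd1, one_pow]
  apply hU1
  apply ext_act
  intro x
  rw [hd, hd2, one_smul, act_one]

end Field

/-- **`PSU_n(q)`: no bad groups of automorphisms.** -/
theorem main {F : Type*} [Field F] [Fintype F] {q n : ℕ} (hF : Fintype.card F = q ^ 2) (hn : 3 ≤ n)
    (h32 : ¬ (n = 3 ∧ q = 2)) {r : ℕ} (hr : r.Prime) [CharP F r] {A : Subgroup (MulAut (PSU n F q))}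
    {z : MulAut (PSU n F q)} {p : ℕ} (hp : p.Prime) (hp2 : p ≠ 2) (hpr : p ≠ r) (hz : orderOf z = p)
    (hA : ∀ a ∈ A, a * z = z * a) (hfix : ∀ s : PSU n F q, z s = s → s ^ r = 1 → s = 1)
    (hno : ¬ ∃ g : PSU n F q, z = MulAut.conj g)
    (quo : ∀ H N : Subgroup (PSU n F q), H ≠ ⊤ → (∀ a ∈ A, ∀ h ∈ H, a h ∈ H) → (∀ a ∈ A, ∀ x ∈ N, a x ∈ N) → N ≤ H →
      (∀ h ∈ H, ∀ x ∈ N, h * x * h⁻¹ ∈ N) → ∀ h ∈ H, (∀ a ∈ A, h⁻¹ * a h ∈ N) → h ∈ N) : False := by
  have hz' : z ^ p = 1 := by rw [← hz]; exact pow_orderOf_eq_one z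
  obtain ⟨B, ρ, rfl⟩ := ClassicalGeometry.PSUAutMain.exists_toAut hF hn h32 z
  by_cases hρ : ρ = 1
  · subst hρ
    refine lin_case hF hn h32 hfix hp hp2 ?_ hz' hno hA quo
    intro h
    exact hpr ((Nat.prime_dvd_prime_iff_eq hr hp).1 ((CharP.cast_eq_zero_iff F r p).1 h)).symm
  · exact field_case hF hn hr hρ hp hp2 hz' hfix

end Cfsg.Agent.H582.FpfPSU
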