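import Mathlib
import Cfsg.Agent.H582.FpfPSU
import Cfsg.Agent.H523.FpfBad

/-!
# `PSU_n(q)` in the Belyaev-Hartley theorem (helper582)

* `noBad_psu` : `IsPSUChar r S → NoBad r S` (for `|S|` divisible by `2` and `r`).
-/

set_option autoImplicit false

namespace Cfsg.Agent.H582.FpfPSU

open Cfsg Cfsg.Agent.H523

universe u

theorem noBad_psu {r : ℕ} (hr : r.Prime) {S : Type u} [Group S] [Finite S] (h : IsPSUChar r S)
    (h2 : 2 ∣ Nat.card S) (hrS : r ∣ Nat.card S) : NoBad r S := by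
  obtain ⟨F, iF, iFi, iC, n, q, hF, hn, h32, ⟨e⟩⟩ := h
  apply NoBad.congr e.symm
  have hfin : Finite (PSU n F q) := Finite.of_equiv S e.toEquiv
  intro A hA
  obtain ⟨p, hp, hp2, hpr, z, hz, hzo, hzc⟩ := hA.exists_odd hr (by rwa [← Nat.card_congr e.toEquiv])
    (by rwa [← Nat.card_congr e.toEquiv])
  have hz1 : z ≠ 1 := by
    rintro rfl
    rw [orderOf_one] at hzo
    exact hp.one_lt.ne hzo
  exact main hF hn h32 hr hp hp2 hpr hzo hzc (hA.cent z hz hz1 hzc) (fun h => hz1 (hA.inn z hz h)) hA.quo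

end Cfsg.Agent.H582.FpfPSU
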