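import Mathlib
import Cfsg.Agent.S0059

/-!
# Point stabilisers in actions of a Frobenius group

`IsFH F H` : `A = FH`, `F` normal, every non-identity element of `H` acts on `F` without fixed points (the case
`H = 1` is allowed), `F` solvable of order prime to that of `H`.  `A` acts on `I`, and some non-identity element of
`H` fixes `i`:

* `IsFH.unique` : an element of `F i` fixed by a non-identity element of `H` fixing `i` is `i`;
* `IsFH.fix_of_mem_orbit` : `h ∈ H` with `h i ∈ F i` fixes `i`;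
* `IsFH.stab` : the stabiliser of `i` is `(F ∩ A_i)(H ∩ A_i)`;
* `IsFH.semiregular` : if `f i ≠ i` then the stabiliser of `f i` in `H` is trivial.
-/

set_option autoImplicit false

namespace Cfsg.Agent.H582

/-- `A = FH` with `F` normal and solvable, of order prime to the order of `H`, and the non-identity elements of `H`
acting on `F` without fixed points. -/
structure IsFH {A : Type*} [Group A] (F H : Subgroup A) : Prop where
  normal : F.Normal
  sup : F ⊔ H = ⊤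
  frob : ∀ h ∈ H, h ≠ 1 → ∀ f ∈ F, h * f = f * h → f = 1
  cop : (Nat.card F).Coprime (Nat.card H)
  sol : Group.IsSolvable F

namespace IsFH

variable {A : Type*} [Group A] [Finite A] {F H : Subgroup A}

omit [Finite A] in
theorem exists_mul (hFH : IsFH F H) (a : A) : ∃ f ∈ F, ∃ h ∈ H, a = f * h := by
  have := hFH.normal
  have ha : a ∈ F ⊔ H := by rw [hFH.sup]; exact Subgroup.mem_top a
  rw [← SetLike.mem_coe, Subgroup.normal_mul] at ha
  obtain ⟨f, hf, h, hh, rfl⟩ := ha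
  exact ⟨f, hf, h, hh, rfl⟩

omit [Finite A] in
theorem inf_eq_bot (hFH : IsFH F H) : F ⊓ H = ⊥ := by
  have := hFH.normal
  rw [eq_bot_iff]
  intro x hx
  by_contra hne
  rw [Subgroup.mem_bot] at hne
  exact hne (hFH.frob x hx.2 hne x hx.1 rfl)

variable {I : Type*} [MulAction A I]

theorem unique (hFH : IsFH F H) {h : A} (hh : h ∈ H) (h1 : h ≠ 1) {i : I} (hi : h • i = i) {f : A}
    (hf : f ∈ F) (hj : h • f • i = f • i) : f • i = i := by
  have := hFH.normal
  let T := {x : A // x ∈ F ∧ x • i = i}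
  let φ : T → T := fun x => ⟨(x : A)⁻¹ * (h * x * h⁻¹),
    F.mul_mem (F.inv_mem x.2.1) (hFH.normal.conj_mem _ x.2.1 h), by
      have h2 : h⁻¹ • i = i := by rw [inv_smul_eq_iff, hi]
      have h3 : (x : A)⁻¹ • i = i := by rw [inv_smul_eq_iff, x.2.2]
      rw [mul_smul, mul_smul, mul_smul, h2, x.2.2, hi, h3]⟩
  have key : ∀ x ∈ F, ∀ y ∈ F, x⁻¹ * (h * x * h⁻¹) = y⁻¹ * (h * y * h⁻¹) → x = y := by
    intro x hx y hy hxy
    have h4 : h * (y * x⁻¹) = y * x⁻¹ * h := by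
      have h5 : y * (x⁻¹ * (h * x * h⁻¹)) = y * (y⁻¹ * (h * y * h⁻¹)) := by rw [hxy]
      have h6 : y * x⁻¹ * h = y * (x⁻¹ * (h * x * h⁻¹)) * (h * x⁻¹) := by group
      rw [h6, h5]; group
    have h7 := hFH.frob h hh h1 (y * x⁻¹) (F.mul_mem hy (F.inv_mem hx)) h4
    rw [mul_inv_eq_one] at h7
    exact h7.symm
  have hinj : Function.Injective φ := by
    intro x y hxy
    apply Subtype.ext
    exact key x x.2.1 y y.2.1 (congrArg Subtype.val hxy)
  have hsurj := Finite.surjective_of_injective hinj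
  have hmem : f⁻¹ * (h * f * h⁻¹) ∈ F := F.mul_mem (F.inv_mem hf) (hFH.normal.conj_mem _ hf h)
  have hfix : (f⁻¹ * (h * f * h⁻¹)) • i = i := by
    have h2 : h⁻¹ • i = i := by rw [inv_smul_eq_iff, hi]
    rw [mul_smul, mul_smul, mul_smul, h2, hj, inv_smul_smul]
  obtain ⟨x, hx⟩ := hsurj ⟨_, hmem, hfix⟩
  have h8 := key x x.2.1 f hf (congrArg Subtype.val hx)
  rw [← h8]; exact x.2.2

/-- The stabiliser of the `F`-orbit of `i`. -/
def orbStab (hF : F.Normal) (i : I) : Subgroup A where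
  carrier := {a | ∃ f ∈ F, a • i = f • i}
  mul_mem' := by
    rintro a b ⟨f, hf, ha⟩ ⟨f', hf', hb⟩
    refine ⟨(a * f' * a⁻¹) * f, F.mul_mem (hF.conj_mem _ hf' a) hf, ?_⟩
    rw [mul_smul, hb, mul_smul, ← ha, ← mul_smul, ← mul_smul]
    congr 1; group
  one_mem' := ⟨1, F.one_mem, rfl⟩
  inv_mem' := by
    rintro a ⟨f, hf, ha⟩
    refine ⟨(a⁻¹ * f * a)⁻¹, F.inv_mem (by simpa using hF.conj_mem _ hf a⁻¹), ?_⟩
    rw [eq_inv_smul_iff, mul_smul, mul_smul, smul_inv_smul, ← ha, inv_smul_smul]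

theorem fix_of_mem_orbit (hFH : IsFH F H) {i : I} {h₁ : A} (hh₁ : h₁ ∈ H) (h₁1 : h₁ ≠ 1) (hi : h₁ • i = i)
    {h : A} (hh : h ∈ H) {f : A} (hf : f ∈ F) (hfi : h • i = f • i) : h • i = i := by
  have := hFH.normal
  set B := orbStab hFH.normal i with hB
  have hFB : F ≤ B := fun x hx => ⟨x, hx, rfl⟩
  have hc : Subgroup.IsComplement' (F.subgroupOf B) (H.subgroupOf B) := by
    refine Subgroup.isComplement'_of_disjoint_and_mul_eq_univ ?_ ?_
    · rw [disjoint_iff, eq_bot_iff]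
      rintro x ⟨hx1, hx2⟩
      have : (x : A) ∈ F ⊓ H := ⟨hx1, hx2⟩
      rw [hFH.inf_eq_bot, Subgroup.mem_bot] at this
      rw [Subgroup.mem_bot]
      exact Subtype.ext this
    · rw [Set.eq_univ_iff_forall]
      intro x
      obtain ⟨f, hf, h, hh, hx⟩ := hFH.exists_mul (x : A)
      have hhB : h ∈ B := by
        have : h = f⁻¹ * x := by rw [hx]; group
        rw [this]
        exact B.mul_mem (hFB (F.inv_mem hf)) x.2
      exact ⟨⟨f, hFB hf⟩, hf, ⟨h, hhB⟩, hh, Subtype.ext hx.symm⟩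
  have hcardF : Nat.card (F.subgroupOf B) = Nat.card F := Nat.card_congr (Subgroup.subgroupOfEquivOfLe hFB).toEquiv
  have hcardH : Nat.card (H.subgroupOf B) ∣ Nat.card H := by
    rw [← Subgroup.inf_subgroupOf_right H B, Nat.card_congr (Subgroup.subgroupOfEquivOfLe inf_le_right).toEquiv]
    exact Subgroup.card_dvd_of_le inf_le_left
  have hcop : (Nat.card (F.subgroupOf B)).Coprime (F.subgroupOf B).index := by
    rw [hc.symm.index_eq_card, hcardF]
    exact Nat.Coprime.coprime_dvd_right hcardH hFH.cop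
  have hsol : Group.IsSolvable (F.subgroupOf B) := by
    have := hFH.sol
    exact Group.isSolvable_of_isSolvable_injective
      (f := (Subgroup.subgroupOfEquivOfLe hFB).toMonoidHom) (MulEquiv.injective _)
  have htrans : MulAction.IsPretransitive (F.subgroupOf B) (MulAction.orbit B i) := by
    refine MulAction.IsPretransitive.mk ?_
    have hkey : ∀ x : MulAction.orbit B i, ∃ g : F.subgroupOf B, g • (⟨i, MulAction.mem_orbit_self i⟩ : MulAction.orbit B i) = x := by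
      rintro ⟨x, b, rfl⟩
      obtain ⟨f, hf, hb⟩ := b.2
      exact ⟨⟨⟨f, hFB hf⟩, hf⟩, Subtype.ext hb.symm⟩
    intro x y
    obtain ⟨g, rfl⟩ := hkey x
    obtain ⟨g', rfl⟩ := hkey y
    exact ⟨g' * g⁻¹, by rw [mul_smul, inv_smul_smul]⟩
  have : Nonempty (MulAction.orbit B i) := ⟨⟨i, MulAction.mem_orbit_self i⟩⟩
  obtain ⟨⟨⟨w, b, rfl⟩, hw⟩, -⟩ := Cfsg.Agent.S0059.result (X := MulAction.orbit B i) (F.subgroupOf B) (H.subgroupOf B) hc hcop
    (Or.inl hsol) htrans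
  have hw' : ∀ x ∈ H, x ∈ B → x • (b • i) = b • i := by
    intro x hx hxB
    have := hw ⟨x, hxB⟩ hx
    exact congrArg Subtype.val this
  obtain ⟨f', hf', hb⟩ := b.2
  have hb' : b • i = f' • i := hb
  rw [hb'] at hw'
  have h₁B : h₁ ∈ B := ⟨1, F.one_mem, by rw [hi, one_smul]⟩
  have h9 := hFH.unique hh₁ h₁1 hi hf' (hw' h₁ hh₁ h₁B)
  rw [h9] at hw'
  exact hw' h hh ⟨f, hf, hfi⟩

theorem stab (hFH : IsFH F H) {i : I} {h₁ : A} (hh₁ : h₁ ∈ H) (h₁1 : h₁ ≠ 1) (hi : h₁ • i = i)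
    {a : A} (ha : a • i = i) : ∃ f ∈ F, ∃ h ∈ H, a = f * h ∧ f • i = i ∧ h • i = i := by
  obtain ⟨f, hf, h, hh, rfl⟩ := hFH.exists_mul a
  have h2 : h • i = f⁻¹ • i := by rw [eq_inv_smul_iff, ← mul_smul, ha]
  have h3 := hFH.fix_of_mem_orbit hh₁ h₁1 hi hh (F.inv_mem hf) h2
  refine ⟨f, hf, h, hh, rfl, ?_, h3⟩
  rw [mul_smul, h3] at ha
  exact ha

theorem semiregular (hFH : IsFH F H) {i : I} {h₁ : A} (hh₁ : h₁ ∈ H) (h₁1 : h₁ ≠ 1) (hi : h₁ • i = i)
    {f : A} (hf : f ∈ F) (hfi : f • i ≠ i) {h : A} (hh : h ∈ H) (hhf : h • f • i = f • i) : h = 1 := by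
  have := hFH.normal
  by_contra h1
  apply hfi
  have h2 : h • i = (h * f⁻¹ * h⁻¹ * f) • i := by
    have h3 : (h * f⁻¹ * h⁻¹ * f) • i = (h * f⁻¹ * h⁻¹) • (h • f • i) := by rw [hhf, mul_smul]
    rw [h3, ← mul_smul, ← mul_smul]
    congr 1; group
  have h4 := hFH.fix_of_mem_orbit hh₁ h₁1 hi hh
    (F.mul_mem (hFH.normal.conj_mem _ (F.inv_mem hf) h) hf) h2
  exact hFH.unique hh h1 h4 hf hhf

end IsFH

end Cfsg.Agent.H582
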