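import Mathlib

/-!
# Simultaneous eigenspaces of commuting operators of finite order

* `wt σ l` : the simultaneous eigenspace of the operators `σ z` with eigenvalues `l z`;
* `wt_indep`, `iSup_wt` : they are independent, and span the space if the operators have finite order prime to the
  characteristic and the field is algebraically closed.
-/

set_option autoImplicit false

namespace Cfsg.Agent.H582

open Module

section Weights

variable {k V Z : Type*} [Field k] [AddCommGroup V] [Module k V]

/-- The simultaneous eigenspace of the operators `σ z` with eigenvalues `l z`. -/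
def wt (σ : Z → End k V) (l : Z → k) : Submodule k V where
  carrier := {v | ∀ z, σ z v = l z • v}
  add_mem' := by
    intro a b ha hb z
    simp only [Set.mem_ofPred_eq] at ha hb
    rw [map_add, ha z, hb z, smul_add]
  zero_mem' := by intro z; simp
  smul_mem' := by
    intro c x hx z
    simp only [Set.mem_ofPred_eq] at hx
    rw [map_smul, hx z, smul_comm]

theorem mem_wt {σ : Z → End k V} {l : Z → k} {v : V} : v ∈ wt σ l ↔ ∀ z, σ z v = l z • v := Iff.rfl

theorem wt_eq (σ : Z → End k V) (l : Z → k) : wt σ l = ⨅ z, (σ z).eigenspace (l z) := by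
  ext v
  simp [mem_wt, Submodule.mem_iInf]

theorem wt_le (σ : Z → End k V) (l : Z → k) : wt σ l ≤ ⨅ z, (σ z).maxGenEigenspace (l z) := by
  rw [wt_eq]
  refine iInf_mono fun z => ?_
  exact ((σ z).genEigenspace (l z)).monotone le_top

theorem wt_indep (σ : Z → End k V) (hcomm : ∀ z w, Commute (σ z) (σ w)) : iSupIndep (wt σ) := by
  have h := Module.End.independent_iInf_maxGenEigenspace_of_forall_mapsTo σ
    (fun i j φ => Module.End.mapsTo_maxGenEigenspace_of_comm (hcomm j i) φ)
  exact h.mono fun l => wt_le σ l

theorem iSup_wt [IsAlgClosed k] [FiniteDimensional k V] (σ : Z → End k V)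
    (hcomm : ∀ z w, Commute (σ z) (σ w)) {n : ℕ} (hn : (n : k) ≠ 0) (hσ : ∀ z, σ z ^ n = 1) :
    ⨆ l, wt σ l = ⊤ := by
  have hss : ∀ z, (σ z).IsSemisimple := by
    intro z
    refine Module.End.isSemisimple_of_squarefree_aeval_eq_zero (p := Polynomial.X ^ n - 1) ?_ ?_
    · exact ((Polynomial.X_pow_sub_one_separable_iff).2 hn).squarefree
    · simp [hσ z]
  have h := Module.End.iSup_iInf_maxGenEigenspace_eq_top_of_iSup_maxGenEigenspace_eq_top_of_commute σ
    (fun i j _ => hcomm i j) (fun i => Module.End.iSup_maxGenEigenspace_eq_top (σ i))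
  rw [← h]
  refine iSup_congr fun l => ?_
  rw [wt_eq]
  refine iInf_congr fun z => ?_
  exact ((hss z).isFinitelySemisimple.maxGenEigenspace_eq_eigenspace (l z)).symm

end Weights

end Cfsg.Agent.H582
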