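import Mathlib
import Cfsg.Agent.H582.Weights
import Cfsg.Agent.H582.FrobGroup

/-!
# Systems of imprimitivity for Frobenius groups of operators
-/

set_option autoImplicit false

namespace Cfsg.Agent.H582

open Module

section Compare

variable {k V A I : Type*} [Field k] [AddCommGroup V] [Module k V] [Group A] [Finite A] [MulAction A I]

/-- If `c` preserves all `W i` and is trivial on the fixed points of `H`, then it is trivial on the vectors of `W i`
fixed by the stabiliser of `i` in `H`. -/
theorem compare (W : I → Submodule k V) (hind : iSupIndep W) (ρ : A →* End k V)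
    (hW : ∀ (a : A) (i : I) (v : V), v ∈ W i → ρ a v ∈ W (a • i)) (H : Subgroup A)
    (c : End k V) (hcW : ∀ i v, v ∈ W i → c v ∈ W i)
    (hc : ∀ v, (∀ h ∈ H, ρ h v = v) → c v = v)
    {i : I} {w : V} (hw : w ∈ W i) (hfix : ∀ h ∈ H, h • i = i → ρ h w = w) : c w = w := by
  classical
  have : Finite (MulAction.orbit H i) := (Set.finite_range (fun h : H => h • i)).to_subtype
  have := Fintype.ofFinite (MulAction.orbit H i)
  have hex : ∀ j : MulAction.orbit H i, ∃ h : H, h • i = (j : I) := fun j => j.2
  choose t ht using hex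
  let g : MulAction.orbit H i → V := fun j => ρ (t j : A) w
  have hgH : ∀ (h : H) (j : MulAction.orbit H i), ρ (h : A) (g j) = g (h • j) := by
    intro h j
    have h1 : ((t (h • j))⁻¹ * (h * t j) : H) • i = i := by
      rw [mul_smul, mul_smul, ht j, inv_smul_eq_iff, ht (h • j)]; rfl
    have h2 := hfix (((t (h • j))⁻¹ * (h * t j) : H) : A) (SetLike.coe_mem _) h1
    have h3 : ρ ((t (h • j) : H) : A) (ρ (((t (h • j))⁻¹ * (h * t j) : H) : A) w) = g (h • j) := by rw [h2]
    rw [← h3]
    change ρ (h : A) (ρ (t j : A) w) = _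
    rw [← Module.End.mul_apply, ← Module.End.mul_apply, ← map_mul, ← map_mul]
    congr 2
    push_cast
    group
  have hv : ∀ h ∈ H, ρ h (∑ j, g j) = ∑ j, g j := by
    intro h hh
    rw [map_sum]
    have : ∀ j, ρ h (g j) = g ((⟨h, hh⟩ : H) • j) := fun j => hgH ⟨h, hh⟩ j
    simp_rw [this]
    exact Fintype.sum_equiv (MulAction.toPerm (⟨h, hh⟩ : H)) _ _ (fun _ => rfl)
  have h4 := hc _ hv
  have h5 : ∑ j, (c (g j) - g j) = 0 := by
    rw [Finset.sum_sub_distrib, ← map_sum, h4, sub_self]
  have hgW : ∀ j : MulAction.orbit H i, g j ∈ W j := by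
    intro j
    have := hW (t j : A) i w hw
    have h6 : ((t j : A) • i) = j := ht j
    rw [h6] at this
    exact this
  have hind' : iSupIndep (fun j : MulAction.orbit H i => W (j : I)) := hind.comp Subtype.val_injective
  have h7 := (iSupIndep_iff_finsetSum_eq_zero_imp_eq_zero _).1 hind' Finset.univ (fun j => c (g j) - g j)
    (fun j _ => Submodule.sub_mem _ (hcW _ _ (hgW j)) (hgW j)) h5 ⟨i, MulAction.mem_orbit_self i⟩ (Finset.mem_univ _)
  have h8 : g ⟨i, MulAction.mem_orbit_self i⟩ = w := by
    have h9 := ht ⟨i, MulAction.mem_orbit_self i⟩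
    exact hfix _ (SetLike.coe_mem _) h9
  simp only [h8] at h7
  exact sub_eq_zero.1 h7

end Compare

section Main

theorem map_prod_smul {k V P J : Type*} [Field k] [AddCommGroup V] [Module k V] [Group P]
    (π : P →* End k V) (L : List J) (g : J → P) (s : J → k) (v : V)
    (h : ∀ j ∈ L, π (g j) v = s j • v) : π (L.map g).prod v = (L.map s).prod • v := by
  induction L with
  | nil => simp
  | cons j L ih =>
    rw [List.map_cons, List.prod_cons, List.map_cons, List.prod_cons, map_mul, Module.End.mul_apply,
      ih (fun i hi => h i (List.mem_cons_of_mem _ hi)), map_smul, h j List.mem_cons_self, smul_smul, mul_comm]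

/-- The restriction of a homomorphism to an invariant subspace. -/
def resHom {k V G : Type*} [Field k] [AddCommGroup V] [Module k V] [Group G] (ρ : G →* End k V)
    (W : Submodule k V) (h : ∀ g, ∀ v ∈ W, ρ g v ∈ W) : G →* End k W where
  toFun g := (ρ g).restrict (h g)
  map_one' := by ext v; simp
  map_mul' a b := by ext v; simp

@[simp] theorem resHom_apply {k V G : Type*} [Field k] [AddCommGroup V] [Module k V] [Group G] (ρ : G →* End k V)
    (W : Submodule k V) (h : ∀ g, ∀ v ∈ W, ρ g v ∈ W) (g : G) (v : W) : ((resHom ρ W h g v : W) : V) = ρ g v := rfl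

universe u v w w'

/-- **Faithful action on the fixed points of the complement.** `A = FH` acts on the `p`-group `P` and, compatibly, on
`V`; no element of `P` acts as a scalar `≠ 1` on an `F`-invariant subspace of `V`.  Then an element of `P` which is
trivial on the fixed points of `H` in `V` is trivial on `V`. -/
theorem trivial_of_trivial_on_fixed {k : Type u} [Field k] [IsAlgClosed k] {p : ℕ} [Fact p.Prime] (hpk : (p : k) ≠ 0) :
    ∀ (n : ℕ) (V : Type v) [AddCommGroup V] [Module k V] [FiniteDimensional k V] (A : Type w) [Group A] [Finite A]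
      (F H : Subgroup A) (_ : IsFH F H) (P : Type w') [Group P] [Finite P] [MulDistribMulAction A P]
      (_ : IsPGroup p P) (ρ : A →* End k V) (π : P →* End k V)
      (_ : ∀ a x v, ρ a (π x v) = π (a • x) (ρ a v))
      (_ : ∀ (x : P) (μ : k) (U : Submodule k V), (∀ f ∈ F, ∀ u ∈ U, ρ f u ∈ U) → (∀ u ∈ U, π x u = μ • u) →
        ∀ u ∈ U, π x u = u)
      (c : P) (_ : ∀ v, (∀ h ∈ H, ρ h v = v) → π c v = v), finrank k V ≤ n → ∀ v, π c v = v := by
  classical
  intro n
  induction n with
  | zero =>
    intro V _ _ _ A _ _ F H hFH P _ _ _ hP ρ π hcompat hS c hc hn v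
    have h0 : finrank k V = 0 := Nat.le_zero.1 hn
    have : Subsingleton V := finrank_zero_iff.1 h0
    exact Subsingleton.elim _ _
  | succ n ih =>
    intro V _ _ _ A _ _ F H hFH P _ _ _ hP ρ π hcompat hS c hc hn
    by_contra hne
    push Not at hne
    obtain ⟨v₀, hv₀⟩ := hne
    have hFn := hFH.normal
    have hπinv : ∀ a v, π a (π a⁻¹ v) = v := by
      intro a v
      rw [← Module.End.mul_apply, ← map_mul, mul_inv_cancel, map_one, Module.End.one_apply]
    have hπinv' : ∀ a v, π a⁻¹ (π a v) = v := by
      intro a v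
      rw [← Module.End.mul_apply, ← map_mul, inv_mul_cancel, map_one, Module.End.one_apply]
    -- the centre modulo the kernel
    let Z : Subgroup P :=
      { carrier := {z | ∀ x v, π z (π x v) = π x (π z v)}
        mul_mem' := by
          intro a b ha hb x v
          rw [map_mul, Module.End.mul_apply, Module.End.mul_apply, hb x v, ha x]
        one_mem' := by intro x v; simp
        inv_mem' := by
          intro a ha x v
          have h1 : π a (π a⁻¹ (π x v)) = π a (π x (π a⁻¹ v)) := by rw [ha x, hπinv, hπinv]
          have h2 := congrArg (π a⁻¹) h1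
          rw [hπinv', hπinv'] at h2
          exact h2 }
    have hZ : ∀ {z : P}, z ∈ Z ↔ ∀ x v, π z (π x v) = π x (π z v) := Iff.rfl
    -- the inverse of `ρ a`
    have hρinv : ∀ a v, ρ a (ρ a⁻¹ v) = v := by
      intro a v
      rw [← Module.End.mul_apply, ← map_mul, mul_inv_cancel, map_one, Module.End.one_apply]
    have hρinv' : ∀ a v, ρ a⁻¹ (ρ a v) = v := by
      intro a v
      rw [← Module.End.mul_apply, ← map_mul, inv_mul_cancel, map_one, Module.End.one_apply]
    have hπ : ∀ a x v, π (a • x) v = ρ a (π x (ρ a⁻¹ v)) := by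
      intro a x v
      rw [hcompat, hρinv]
    have hZA : ∀ (a : A) (z : P), z ∈ Z → a • z ∈ Z := by
      intro a z hz x v
      have hx : x = a • (a⁻¹ • x) := by rw [smul_inv_smul]
      rw [hx, hπ a z, hπ a (a⁻¹ • x), hπ a (a⁻¹ • x), hρinv', hz, hπ a z, hρinv']
    let σ : Z → End k V := fun z => π z
    have hcomm : ∀ z w, Commute (σ z) (σ w) := by
      intro z w
      refine LinearMap.ext fun v => ?_
      exact z.2 w v
    have hcard : ((Nat.card P : ℕ) : k) ≠ 0 := by
      obtain ⟨m, hm⟩ := (IsPGroup.iff_card).1 hP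
      rw [hm]
      push_cast
      exact pow_ne_zero m hpk
    have hσ : ∀ z, σ z ^ Nat.card P = 1 := by
      intro z
      change π z ^ _ = 1
      rw [← map_pow, pow_card_eq_one', map_one]
    have hind := wt_indep σ hcomm
    have htop := iSup_wt σ hcomm hcard hσ
    -- the action on the weights
    let _ : MulAction A (Z → k) :=
      { smul := fun a l z => l ⟨a⁻¹ • (z : P), hZA a⁻¹ z z.2⟩
        one_smul := by
          intro l
          funext z
          change l _ = l z
          congr 1
          apply Subtype.ext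
          simp
        mul_smul := by
          intro a b l
          funext z
          change l _ = l _
          congr 1
          apply Subtype.ext
          simp [mul_smul] }
    have hact : ∀ (a : A) (l : Z → k) (z : Z), (a • l) z = l ⟨a⁻¹ • (z : P), hZA a⁻¹ z z.2⟩ := fun _ _ _ => rfl
    have hW : ∀ (a : A) (l : Z → k) (v : V), v ∈ wt σ l → ρ a v ∈ wt σ (a • l) := by
      intro a l v hv z
      rw [hact]
      have h1 := hv ⟨a⁻¹ • (z : P), hZA a⁻¹ z z.2⟩
      change π (a⁻¹ • (z : P)) v = _ at h1
      have h2 : π (z : P) (ρ a v) = ρ a (π (a⁻¹ • (z : P)) v) := by rw [hcompat, smul_inv_smul]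
      change π (z : P) (ρ a v) = _
      rw [h2, h1, map_smul]
    have hPW : ∀ (x : P) (l : Z → k) (v : V), v ∈ wt σ l → π x v ∈ wt σ l := by
      intro x l v hv z
      have h1 : π (z : P) (π x v) = π x (π z v) := z.2 x v
      change π (z : P) (π x v) = _
      rw [h1]
      have h2 : π (z : P) v = l z • v := hv z
      rw [h2, map_smul]
    -- a weight on which `c` is not trivial
    obtain ⟨l, w, hw, hcw⟩ : ∃ (l : Z → k) (w : V), w ∈ wt σ l ∧ π c w ≠ w := by
      by_contra hcon
      push Not at hcon
      have h1 : (⨆ l, wt σ l) ≤ (π c).eqLocus LinearMap.id := iSup_le fun l w hw => hcon l w hw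
      rw [htop] at h1
      exact hv₀ (h1 (Submodule.mem_top (x := v₀)))
    -- it is a proper subspace
    have hWne : wt σ l ≠ ⊤ := by
      intro htl
      have hZker : ∀ z ∈ Z, ∀ v, π z v = v := by
        intro z hz v
        refine hS z (l ⟨z, hz⟩) ⊤ (fun _ _ _ _ => Submodule.mem_top) ?_ v Submodule.mem_top
        intro u _
        have hu : u ∈ wt σ l := by rw [htl]; exact Submodule.mem_top
        exact hu ⟨z, hz⟩
      by_cases hker : π.ker = ⊤
      · have : c ∈ π.ker := by rw [hker]; exact Subgroup.mem_top c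
        rw [MonoidHom.mem_ker] at this
        exact hv₀ (by rw [this]; rfl)
      · have hnt : Nontrivial (P ⧸ π.ker) := QuotientGroup.nontrivial_iff.2 hker
        have hq : IsPGroup p (P ⧸ π.ker) := hP.to_quotient _
        have hcn := hq.center_nontrivial
        obtain ⟨⟨y, hy⟩, hy1⟩ := exists_ne (1 : Subgroup.center (P ⧸ π.ker))
        obtain ⟨x, rfl⟩ := QuotientGroup.mk_surjective y
        have hxZ : x ∈ Z := by
          intro x' v
          have h1 := (Subgroup.mem_center_iff.1 hy) (x' : P ⧸ π.ker)
          rw [← QuotientGroup.mk_mul, ← QuotientGroup.mk_mul, QuotientGroup.eq, MonoidHom.mem_ker] at h1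
          have h2 : π (x * x') = π (x' * x) := by
            have h3 : x * x' = (x' * x) * ((x' * x)⁻¹ * (x * x')) := by group
            rw [h3, map_mul π (x' * x), h1, mul_one]
          rw [← Module.End.mul_apply, ← Module.End.mul_apply, ← map_mul, ← map_mul, h2]
        apply hy1
        apply Subtype.ext
        change (x : P ⧸ π.ker) = 1
        rw [QuotientGroup.eq_one_iff, MonoidHom.mem_ker]
        exact LinearMap.ext fun v => hZker x hxZ v
    have hfr : finrank k (wt σ l) ≤ n := by
      have := Submodule.finrank_lt hWne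
      omega
    -- the stabiliser in `H` is not trivial
    have hcmp : ∀ {i : Z → k} {w : V}, w ∈ wt σ i → (∀ h ∈ H, h • i = i → ρ h w = w) → π c w = w :=
      fun hw hfix => compare (wt σ) hind ρ hW H (π c) (hPW c) hc hw hfix
    obtain ⟨h₁, hh₁, h₁l, h₁1⟩ : ∃ h₁ ∈ H, h₁ • l = l ∧ h₁ ≠ 1 := by
      by_contra hcon
      push Not at hcon
      refine hcw (hcmp hw ?_)
      intro h hh hl
      rw [hcon h hh hl, map_one, Module.End.one_apply]
    -- the new data
    let A' := MulAction.stabilizer A l
    have hA' : ∀ a : A', (a : A) • l = l := fun a => a.2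
    have hFH' : IsFH (F.subgroupOf A') (H.subgroupOf A') := by
      refine ⟨inferInstance, ?_, ?_, ?_, ?_⟩
      · rw [eq_top_iff]
        intro a _
        obtain ⟨f, hf, h, hh, hafh, hfl, hhl⟩ := hFH.stab hh₁ h₁1 h₁l a.2
        have : a = (⟨f, hfl⟩ : A') * ⟨h, hhl⟩ := Subtype.ext hafh
        rw [this]
        exact Subgroup.mul_mem_sup (Subgroup.mem_subgroupOf.2 hf) (Subgroup.mem_subgroupOf.2 hh)
      · intro h hh h1 f hf hfh
        have := hFH.frob h hh (fun h0 => h1 (Subtype.ext h0)) f hf (congrArg Subtype.val hfh)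
        exact Subtype.ext this
      · refine Nat.Coprime.coprime_dvd_left ?_ (Nat.Coprime.coprime_dvd_right ?_ hFH.cop)
        · rw [← Subgroup.inf_subgroupOf_right F A', Nat.card_congr (Subgroup.subgroupOfEquivOfLe inf_le_right).toEquiv]
          exact Subgroup.card_dvd_of_le inf_le_left
        · rw [← Subgroup.inf_subgroupOf_right H A', Nat.card_congr (Subgroup.subgroupOfEquivOfLe inf_le_right).toEquiv]
          exact Subgroup.card_dvd_of_le inf_le_left
      · have := hFH.sol
        exact Group.isSolvable_of_isSolvable_injective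
          (f := (A'.subtype.comp (F.subgroupOf A').subtype).codRestrict F (fun x => x.2))
          (fun x y hxy => Subtype.ext (Subtype.ext (congrArg (fun z : F => (z : A)) hxy)))
    let C : Subgroup P :=
      { carrier := {x | ∀ f ∈ F, f • l ≠ l → ∀ v ∈ wt σ (f • l), π x v = v}
        mul_mem' := by
          intro a b ha hb f hf hfl v hv
          rw [map_mul, Module.End.mul_apply, hb f hf hfl v hv, ha f hf hfl v hv]
        one_mem' := by intro f hf hfl v hv; simp
        inv_mem' := by
          intro a ha f hf hfl v hv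
          have h1 := ha f hf hfl v hv
          have h2 := congrArg (π a⁻¹) h1
          rw [hπinv'] at h2
          exact h2.symm }
    have hCA : ∀ a : A', ∀ x ∈ C, (a : A) • x ∈ C := by
      intro a x hx f hf hfl v hv
      rw [hπ]
      have h1 : ρ (a : A)⁻¹ v ∈ wt σ (((a : A)⁻¹ * f * a) • l) := by
        have h2 := hW (a : A)⁻¹ _ v hv
        rwa [← mul_smul, ← hA' a, ← mul_smul] at h2
      have h3 : ((a : A)⁻¹ * f * a) • l ≠ l := by
        intro h4
        apply hfl
        rw [mul_smul, mul_smul, hA' a, inv_smul_eq_iff, hA' a] at h4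
        exact h4
      have h5 : (a : A)⁻¹ * f * a ∈ F := by simpa using hFn.conj_mem f hf (a : A)⁻¹
      rw [hx _ h5 h3 _ h1, hρinv]
    let _ : MulDistribMulAction A' C :=
      { smul := fun a x => ⟨(a : A) • (x : P), hCA a x x.2⟩
        one_smul := fun x => Subtype.ext (one_smul A (x : P))
        mul_smul := fun a b x => Subtype.ext (mul_smul (a : A) (b : A) (x : P))
        smul_mul := fun a x y => Subtype.ext (smul_mul' (a : A) (x : P) (y : P))
        smul_one := fun a => Subtype.ext (smul_one (a : A)) }
    have hCact : ∀ (a : A') (x : C), ((a • x : C) : P) = (a : A) • (x : P) := fun _ _ => rfl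
    have hρW : ∀ a : A', ∀ v ∈ wt σ l, ρ.comp A'.subtype a v ∈ wt σ l := by
      intro a v hv
      have := hW (a : A) l v hv
      rwa [hA' a] at this
    have hπW : ∀ x : C, ∀ v ∈ wt σ l, π.comp C.subtype x v ∈ wt σ l := fun x v hv => hPW x l v hv
    have hcC : c ∈ C := by
      intro f hf hfl v hv
      refine hcmp hv ?_
      intro h hh hhf
      rw [hFH.semiregular hh₁ h₁1 h₁l hf hfl hh hhf, map_one, Module.End.one_apply]
    have hfin := ih (wt σ l) A' (F.subgroupOf A') (H.subgroupOf A') hFH' C (hP.to_subgroup C)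
      (resHom (ρ.comp A'.subtype) (wt σ l) hρW) (resHom (π.comp C.subtype) (wt σ l) hπW)
      (fun a x v => Subtype.ext (hcompat (a : A) (x : P) (v : V))) ?_ ⟨c, hcC⟩ ?_ hfr ⟨w, hw⟩
    · exact hcw (congrArg Subtype.val hfin)
    · intro x μ U hU hUx
      -- the orbit of `l` under `F`
      have : Finite (MulAction.orbit F l) := (Set.finite_range (fun f : F => f • l)).to_subtype
      have := Fintype.ofFinite (MulAction.orbit F l)
      have hex : ∀ j : MulAction.orbit F l, ∃ f : F, f • l = (j : Z → k) := fun j => j.2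
      choose t ht using hex
      let y : P := ((Finset.univ : Finset (MulAction.orbit F l)).toList.map (fun j => (t j : A) • (x : P))).prod
      have hy : ∀ f ∈ F, ∀ u ∈ U, π y (ρ f (u : V)) = μ • ρ f (u : V) := by
        intro f hf u hu
        have hmem : f • l ∈ MulAction.orbit F l := ⟨⟨f, hf⟩, rfl⟩
        have h1 : ∀ j ∈ (Finset.univ : Finset (MulAction.orbit F l)).toList,
            π ((t j : A) • (x : P)) (ρ f (u : V)) =
              (if j = ⟨f • l, hmem⟩ then μ else 1) • ρ f (u : V) := by
          intro j _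
          have h2 : ρ f (u : V) = ρ (t j : A) (ρ ((t j : A)⁻¹ * f) (u : V)) := by
            rw [← Module.End.mul_apply, ← map_mul, mul_inv_cancel_left]
          have h3 : (t j : A)⁻¹ * f ∈ F := F.mul_mem (F.inv_mem (t j).2) hf
          have h4 : ρ ((t j : A)⁻¹ * f) (u : V) ∈ wt σ (((t j : A)⁻¹ * f) • l) := hW _ _ _ u.2
          by_cases hj : j = ⟨f • l, hmem⟩
          · rw [if_pos hj]
            have h5 : ((t j : A)⁻¹ * f) • l = l := by
              rw [mul_smul, inv_smul_eq_iff]
              have h6 := ht j
              rw [hj] at h6 ⊢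
              exact h6.symm
            have h6 := hU ⟨(t j : A)⁻¹ * f, h5⟩ h3 u hu
            have h7 := congrArg Subtype.val (hUx _ h6)
            change π (x : P) (ρ ((t j : A)⁻¹ * f) (u : V)) = μ • ρ ((t j : A)⁻¹ * f) (u : V) at h7
            rw [h2, ← hcompat, h7, map_smul]
          · rw [if_neg hj, one_smul]
            have h5 : ((t j : A)⁻¹ * f) • l ≠ l := by
              intro h6
              apply hj
              rw [mul_smul, inv_smul_eq_iff] at h6
              apply Subtype.ext
              rw [← ht j]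
              exact h6.symm
            rw [h2, ← hcompat, x.2 _ h3 h5 _ h4]
        have h8 := map_prod_smul π _ _ _ _ h1
        rw [Finset.prod_map_toList] at h8
        simpa using h8
      have hx : ∀ u ∈ U, μ • (u : V) = u := by
        let U' : Submodule k V := ⨆ f : F, (U.map (wt σ l).subtype).map (ρ (f : A))
        have hUU' : ∀ u ∈ U, (u : V) ∈ U' := by
          intro u hu
          refine Submodule.mem_iSup_of_mem 1 ⟨u, ⟨u, hu, rfl⟩, ?_⟩
          simp
        have h1 : ∀ u ∈ U', π y u = μ • u := by
          have h2 : U' ≤ (π y).eqLocus (μ • LinearMap.id) := by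
            refine iSup_le fun f => ?_
            rintro _ ⟨_, ⟨u, hu, rfl⟩, rfl⟩
            exact hy f f.2 u hu
          exact fun u hu => h2 hu
        have h2 : ∀ f ∈ F, ∀ u ∈ U', ρ f u ∈ U' := by
          intro f hf u hu
          have h3 : U' ≤ U'.comap (ρ f) := by
            refine iSup_le fun f' => ?_
            rintro _ ⟨_, ⟨u, hu, rfl⟩, rfl⟩
            rw [Submodule.mem_comap]
            refine Submodule.mem_iSup_of_mem ⟨f * f', F.mul_mem hf f'.2⟩ ⟨u, ⟨u, hu, rfl⟩, ?_⟩
            rw [map_mul, Module.End.mul_apply]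
            rfl
          exact h3 hu
        intro u hu
        have h4 := hS y μ U' h2 h1 u (hUU' u hu)
        rw [h1 u (hUU' u hu)] at h4
        exact h4
      intro u hu
      rw [hUx u hu]
      exact Subtype.ext (hx u hu)
    · rintro ⟨v, hv⟩ hfix
      refine Subtype.ext (hcmp hv ?_)
      intro h hh hhl
      exact congrArg Subtype.val (hfix ⟨h, hhl⟩ hh)

end Main

end Cfsg.Agent.H582
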