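import Mathlib
import Cfsg.Agent.S0045

/-!
# Nilpotent groups acting without fixed points: fixed points in cosets

* `cocycle_trivial` : the nilpotent group `F` acts on the solvable group `K` without fixed points; a cocycle whose
  twisted action has no fixed points is a coboundary (conjugacy of Carter subgroups of `K ⋊ F`);
* `exists_fixed_of_coset` : `N` normal, solvable and invariant, without fixed points: an invariant coset of `N`
  contains a fixed point;
* `mem_of_fixed_coset` : `F` without fixed points on `G`: an invariant coset of `N` is `N`.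
-/

set_option autoImplicit false

namespace Cfsg.Agent.H582

open Subgroup
open scoped Pointwise

section Cocycle

variable {K F : Type*} [Group K] [Finite K] [Group F] [Finite F] [MulDistribMulAction F K]

theorem cocycle_trivial (hK : Group.IsSolvable K) (hF : Group.IsNilpotent F) (z : F → K)
    (hz : ∀ f f', z (f * f') = z f * f • z f') (h1 : ∀ n : K, (∀ f : F, f • n = n) → n = 1)
    (h2 : ∀ n : K, (∀ f, z f * f • n * (z f)⁻¹ = n) → n = 1) : ∃ n : K, ∀ f, z f = n * (f • n)⁻¹ := by
  classical
  let φ : F →* MulAut K := MulDistribMulAction.toMulAut F K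
  have hφ : ∀ (f : F) (x : K), φ f x = f • x := fun _ _ => rfl
  have hz1 : z 1 = 1 := by
    have := hz 1 1
    rw [mul_one, one_smul] at this
    exact (left_eq_mul.1 this)
  let s : F →* K ⋊[φ] F :=
    { toFun := fun f => ⟨z f, f⟩
      map_one' := by rw [hz1]; rfl
      map_mul' := by
        intro f f'
        ext
        · rw [hz]; rfl
        · rfl }
  let r : F →* K ⋊[φ] F := SemidirectProduct.inr
  have hs : ∀ f, s f = ⟨z f, f⟩ := fun _ => rfl
  have hr : ∀ f, r f = ⟨1, f⟩ := fun _ => rfl
  have hsinj : Function.Injective s := fun a b hab => congrArg SemidirectProduct.right hab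
  have hrinj : Function.Injective r := fun a b hab => congrArg SemidirectProduct.right hab
  have : Finite (K ⋊[φ] F) := Finite.of_equiv _ SemidirectProduct.equivProd.symm
  have hsolF : Group.IsSolvable F := inferInstance
  have hsol : Group.IsSolvable (K ⋊[φ] F) :=
    Group.isSolvable_of_ker_le_range (SemidirectProduct.inl : K →* K ⋊[φ] F) SemidirectProduct.rightHom
      (by rw [← SemidirectProduct.range_inl_eq_ker_rightHom])
  have hnil : ∀ t : F →* K ⋊[φ] F, Function.Injective t → Group.IsNilpotent t.range := fun t ht =>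
    (Group.isNilpotent_congr (MonoidHom.ofInjective ht)).1 hF
  -- a complement without fixed points is self-normalising
  have hself : ∀ t : F →* K ⋊[φ] F, (∀ f, (t f).right = f) →
      (∀ n : K, (∀ f, (t f).left * f • n * (t f).left⁻¹ = n) → n = 1) →
      normalizer ((t.range : Subgroup (K ⋊[φ] F)) : Set (K ⋊[φ] F)) = t.range := by
    intro t ht hfix
    refine le_antisymm ?_ le_normalizer
    intro g hg
    -- `g = inl n * t f`
    set f := g.right with hf
    set n := g.left * (t f).left⁻¹ with hn
    have hg1 : g = (SemidirectProduct.inl n : K ⋊[φ] F) * t f := by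
      ext
      · simp [hn]
      · simp [hf, ht]
    have htf : t f ∈ normalizer ((t.range : Subgroup (K ⋊[φ] F)) : Set (K ⋊[φ] F)) := le_normalizer ⟨f, rfl⟩
    have hnn : (SemidirectProduct.inl n : K ⋊[φ] F) ∈ normalizer ((t.range : Subgroup (K ⋊[φ] F)) : Set (K ⋊[φ] F)) := by
      have : (SemidirectProduct.inl n : K ⋊[φ] F) = g * (t f)⁻¹ := by rw [hg1]; group
      rw [this]
      exact mul_mem hg (inv_mem htf)
    have hn1 : n = 1 := by
      apply hfix
      intro f'
      have h3 := (mem_normalizer_iff.1 hnn (t f')).1 ⟨f', rfl⟩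
      obtain ⟨f'', hf''⟩ := h3
      have h4 := congrArg SemidirectProduct.right hf''
      rw [ht] at h4
      simp only [SemidirectProduct.mul_right, SemidirectProduct.right_inl, SemidirectProduct.inv_right, one_mul, inv_one,
        mul_one, ht] at h4
      rw [h4] at hf''
      have h9 : t f' * SemidirectProduct.inl n = SemidirectProduct.inl n * t f' := by
        rw [eq_mul_inv_iff_mul_eq] at hf''
        exact hf''
      have h10 := congrArg SemidirectProduct.left h9
      simp only [SemidirectProduct.mul_left, SemidirectProduct.left_inl, SemidirectProduct.right_inl, map_one,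
        MulAut.one_apply, ht, hφ] at h10
      rw [h10]; group
    rw [hg1, hn1, map_one, one_mul]
    exact ⟨f, rfl⟩
  have hCs := hself s (fun _ => rfl) (by intro n hn; exact h2 n hn)
  have hCr := hself r (fun _ => rfl) (by
    intro n hn
    refine h1 n fun f => ?_
    have := hn f
    simpa [hr] using this)
  obtain ⟨g, hg⟩ := (Cfsg.Agent.S0045.result (G := K ⋊[φ] F)).2 r.range s.range (hnil r hrinj) hCr (hnil s hsinj) hCs
  -- `g = inl n * inr f₀`
  refine ⟨g.left, fun f => ?_⟩
  have hg1 : g = (SemidirectProduct.inl g.left : K ⋊[φ] F) * r g.right := by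
    ext <;> simp [hr]
  have h3 : MulAut.conj (SemidirectProduct.inl g.left : K ⋊[φ] F) • r.range = s.range := by
    rw [← hg]
    have h0 : MulAut.conj (r g.right) • r.range = r.range :=
      Subgroup.conj_smul_eq_self_of_mem (MonoidHom.mem_range.2 ⟨_, rfl⟩)
    conv_rhs => rw [hg1, map_mul, mul_smul, h0]
  have h4 : (SemidirectProduct.inl g.left : K ⋊[φ] F) * r f * (SemidirectProduct.inl g.left : K ⋊[φ] F)⁻¹ ∈ s.range := by
    rw [← h3, Subgroup.mem_smul_pointwise_iff_exists]
    exact ⟨r f, ⟨f, rfl⟩, by simp [MulAut.smul_def]⟩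
  obtain ⟨f', hf'⟩ := h4
  have h5 := congrArg SemidirectProduct.right hf'
  simp [hs, hr] at h5
  rw [h5] at hf'
  have h6 := congrArg SemidirectProduct.left hf'
  simp [hs, hr, hφ] at h6
  rw [h6]
  

/-- **Fixed points in invariant cosets.** -/
theorem exists_fixed_of_coset {G F : Type*} [Group G] [Finite G] [Group F] [Finite F] [MulDistribMulAction F G]
    (hF : Group.IsNilpotent F) (N : Subgroup G) [N.Normal] (hN : ∀ (f : F) (n : G), n ∈ N → f • n ∈ N)
    (hsol : Group.IsSolvable N) (hfix : ∀ n ∈ N, (∀ f : F, f • n = n) → n = 1) (g : G)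
    (hg : ∀ f : F, g⁻¹ * f • g ∈ N) : ∃ n ∈ N, ∀ f : F, f • (g * n) = g * n := by
  let _ : MulDistribMulAction F N :=
    { smul := fun f n => ⟨f • (n : G), hN f n n.2⟩
      one_smul := fun n => Subtype.ext (one_smul F (n : G))
      mul_smul := fun a b n => Subtype.ext (mul_smul a b (n : G))
      smul_mul := fun a x y => Subtype.ext (smul_mul' a (x : G) (y : G))
      smul_one := fun a => Subtype.ext (smul_one a) }
  have hact : ∀ (f : F) (n : N), ((f • n : N) : G) = f • (n : G) := fun _ _ => rfl
  obtain ⟨n, hn⟩ := cocycle_trivial (K := N) (F := F) hsol hF (fun f => ⟨g⁻¹ * f • g, hg f⟩) (by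
      intro f f'
      apply Subtype.ext
      rw [Subgroup.coe_mul, hact]
      simp only [smul_mul', smul_inv', mul_smul]
      group) (by
      intro n hn
      exact Subtype.ext (hfix n n.2 fun f => congrArg Subtype.val (hn f))) (by
      intro n hn
      apply Subtype.ext
      have h3 : g * (n : G) * g⁻¹ = 1 := by
        refine hfix _ (Subgroup.Normal.conj_mem inferInstance _ n.2 g) fun f => ?_
        have h4 := congrArg Subtype.val (hn f)
        simp only [Subgroup.coe_mul, Subgroup.coe_inv, hact] at h4
        calc f • (g * (n : G) * g⁻¹) = g * (g⁻¹ * f • g * f • (n : G) * (g⁻¹ * f • g)⁻¹) * g⁻¹ := by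
              rw [smul_mul', smul_mul', smul_inv']; group
          _ = g * (n : G) * g⁻¹ := by rw [h4]
      rw [mul_inv_eq_one] at h3
      simpa using h3)
  refine ⟨n, n.2, fun f => ?_⟩
  have h3 := congrArg Subtype.val (hn f)
  simp only [Subgroup.coe_mul, Subgroup.coe_inv, hact] at h3
  rw [smul_mul']
  have h4 : f • g = g * (n * (f • (n : G))⁻¹) := by rw [← h3]; group
  rw [h4]; group

/-- A nilpotent group without fixed points on `G` has no fixed coset of a solvable invariant subgroup other than the
subgroup itself. -/
theorem mem_of_fixed_coset {G F : Type*} [Group G] [Finite G] [Group F] [Finite F] [MulDistribMulAction F G]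
    (hF : Group.IsNilpotent F) (hfix : ∀ g : G, (∀ f : F, f • g = g) → g = 1) (N : Subgroup G)
    (hN : ∀ (f : F) (n : G), n ∈ N → f • n ∈ N)
    (hsol : Group.IsSolvable N) (g : G) (hg : ∀ f : F, g⁻¹ * f • g ∈ N) : g ∈ N := by
  let _ : MulDistribMulAction F N :=
    { smul := fun f n => ⟨f • (n : G), hN f n n.2⟩
      one_smul := fun n => Subtype.ext (one_smul F (n : G))
      mul_smul := fun a b n => Subtype.ext (mul_smul a b (n : G))
      smul_mul := fun a x y => Subtype.ext (smul_mul' a (x : G) (y : G))
      smul_one := fun a => Subtype.ext (smul_one a) }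
  have hact : ∀ (f : F) (n : N), ((f • n : N) : G) = f • (n : G) := fun _ _ => rfl
  obtain ⟨n, hn⟩ := cocycle_trivial (K := N) (F := F) hsol hF (fun f => ⟨g⁻¹ * f • g, hg f⟩) (by
      intro f f'
      apply Subtype.ext
      rw [Subgroup.coe_mul, hact]
      simp only [smul_mul', smul_inv', mul_smul]
      group) (by
      intro n hn
      exact Subtype.ext (hfix n fun f => congrArg Subtype.val (hn f))) (by
      intro n hn
      apply Subtype.ext
      have h3 : g * (n : G) * g⁻¹ = 1 := by
        refine hfix _ fun f => ?_
        have h4 := congrArg Subtype.val (hn f)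
        simp only [Subgroup.coe_mul, Subgroup.coe_inv, hact] at h4
        calc f • (g * (n : G) * g⁻¹) = g * (g⁻¹ * f • g * f • (n : G) * (g⁻¹ * f • g)⁻¹) * g⁻¹ := by
              rw [smul_mul', smul_mul', smul_inv']; group
          _ = g * (n : G) * g⁻¹ := by rw [h4]
      rw [mul_inv_eq_one] at h3
      simpa using h3)
  have h1 : g * n = 1 := by
    refine hfix _ fun f => ?_
    have h3 := congrArg Subtype.val (hn f)
    simp only [Subgroup.coe_mul, Subgroup.coe_inv, hact] at h3
    rw [smul_mul']
    have h4 : f • g = g * (n * (f • (n : G))⁻¹) := by rw [← h3]; group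
    rw [h4]; group
  rw [mul_eq_one_iff_eq_inv] at h1
  rw [h1]
  exact N.inv_mem n.2

end Cocycle

end Cfsg.Agent.H582
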