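import Mathlib
import Cfsg.Agent.H582.Clifford
import Cfsg.Agent.H582.Fpf

/-!
# Faithful action on the fixed points of the complement, over an arbitrary field

* `trivial_field` : `A = FH` with `F` nilpotent acts on the `p`-group `P` with `C_P(F) = 1` and compatibly on `V` over
  a field of characteristic not `p`.  An element of `P` which is trivial on `C_V(H)` is trivial on `V`.
-/

set_option autoImplicit false

namespace Cfsg.Agent.H582

open Module TensorProduct

section Scalar

variable {k V A P : Type*} [Field k] [AddCommGroup V] [Module k V] [Group A] [Finite A] [Group P] [Finite P]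
  [MulDistribMulAction A P]

/-- If `F` is nilpotent and has no fixed points on the solvable group `P`, then no element of `P` acts as a scalar
`≠ 1` on an `F`-invariant subspace. -/
theorem eq_of_scalar (F : Subgroup A) (hnil : Group.IsNilpotent F) (hsol : Group.IsSolvable P)
    (hfix : ∀ x : P, (∀ f ∈ F, f • x = x) → x = 1) (ρ : A →* End k V) (π : P →* End k V)
    (hcompat : ∀ a x v, ρ a (π x v) = π (a • x) (ρ a v)) (x : P) (μ : k) (U : Submodule k V)
    (hU : ∀ f ∈ F, ∀ u ∈ U, ρ f u ∈ U) (hx : ∀ u ∈ U, π x u = μ • u) : ∀ u ∈ U, π x u = u := by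
  have hρinv : ∀ a v, ρ a (ρ a⁻¹ v) = v := by
    intro a v
    rw [← Module.End.mul_apply, ← map_mul, mul_inv_cancel, map_one, Module.End.one_apply]
  have hπ : ∀ a x v, π (a • x) v = ρ a (π x (ρ a⁻¹ v)) := by
    intro a x v
    rw [hcompat, hρinv]
  have hπinv' : ∀ a v, π a⁻¹ (π a v) = v := by
    intro a v
    rw [← Module.End.mul_apply, ← map_mul, inv_mul_cancel, map_one, Module.End.one_apply]
  let N : Subgroup P :=
    { carrier := {x | ∀ u ∈ U, π x u = u}
      mul_mem' := by
        intro a b ha hb u hu
        rw [map_mul, Module.End.mul_apply, hb u hu, ha u hu]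
      one_mem' := by intro u hu; simp
      inv_mem' := by
        intro a ha u hu
        have h2 := congrArg (π a⁻¹) (ha u hu)
        rw [hπinv'] at h2
        exact h2.symm }
  have hxN : x ∈ N := by
    refine mem_of_fixed_coset (F := F) hnil (fun g hg => hfix g fun f hf => hg ⟨f, hf⟩) N ?_ inferInstance x ?_
    · intro f n hn u hu
      change π ((f : A) • n) u = u
      rw [hπ, hn _ (hU _ (F.inv_mem f.2) u hu), hρinv]
    · intro f u hu
      change π (x⁻¹ * (f : A) • x) u = u
      rw [map_mul, Module.End.mul_apply, hπ, hx _ (hU _ (F.inv_mem f.2) u hu), map_smul, hρinv, ← hx u hu, hπinv']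
  exact hxN

end Scalar

section BaseChange

variable {K V : Type*} [Field K] [AddCommGroup V] [Module K V] (k : Type*) [Field k] [Algebra K k]

/-- Base change of a homomorphism to endomorphisms. -/
noncomputable def bcHom {G : Type*} [Group G] (ρ : G →* End K V) : G →* End k (k ⊗[K] V) where
  toFun g := (ρ g).baseChange k
  map_one' := by
    rw [map_one]
    exact LinearMap.baseChange_id
  map_mul' a b := by
    rw [map_mul]
    exact LinearMap.baseChange_comp _ _

theorem bcHom_tmul {G : Type*} [Group G] (ρ : G →* End K V) (g : G) (x : k) (v : V) :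
    bcHom k ρ g (x ⊗ₜ[K] v) = x ⊗ₜ[K] (ρ g v) := rfl

theorem bcHom_coord {ι : Type*} [DecidableEq ι] (b : Basis ι K k) {G : Type*} [Group G] (ρ : G →* End K V) (g : G)
    (t : k ⊗[K] V) (i : ι) : TensorProduct.equivFinsuppOfBasisLeft b (bcHom k ρ g t) i =
      ρ g (TensorProduct.equivFinsuppOfBasisLeft b t i) := by
  induction t using TensorProduct.induction_on with
  | zero => simp
  | tmul y v =>
    rw [bcHom_tmul]
    simp
  | add s t hs ht => simp only [map_add, Finsupp.add_apply, hs, ht]

end BaseChange

universe u v w w'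

theorem trivial_field {K : Type u} [Field K] {p : ℕ} [Fact p.Prime] (hpK : (p : K) ≠ 0) (V : Type v)
    [AddCommGroup V] [Module K V] [FiniteDimensional K V] (A : Type w) [Group A] [Finite A]
    (F H : Subgroup A) (hFH : IsFH F H) (hnil : Group.IsNilpotent F) (P : Type w') [Group P] [Finite P]
    [MulDistribMulAction A P] (hP : IsPGroup p P) (hfix : ∀ x : P, (∀ f ∈ F, f • x = x) → x = 1)
    (ρ : A →* End K V) (π : P →* End K V) (hcompat : ∀ a x v, ρ a (π x v) = π (a • x) (ρ a v)) (c : P)
    (hc : ∀ v, (∀ h ∈ H, ρ h v = v) → π c v = v) : ∀ v, π c v = v := by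
  classical
  let k := AlgebraicClosure K
  have hpk : (p : k) ≠ 0 := by
    rw [← map_natCast (algebraMap K k) p]
    exact (map_ne_zero _).2 hpK
  have hPn : Group.IsNilpotent P := hP.isNilpotent
  have hsol : Group.IsSolvable P := inferInstance
  have hcompat' : ∀ a x v, bcHom k ρ a (bcHom k π x v) = bcHom k π (a • x) (bcHom k ρ a v) := by
    intro a x v
    induction v using TensorProduct.induction_on with
    | zero => simp
    | tmul y v => rw [bcHom_tmul, bcHom_tmul, bcHom_tmul, bcHom_tmul, hcompat]
    | add s t hs ht => simp only [map_add, hs, ht]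
  -- coordinates with respect to a basis of `k` over `K`
  let b := Module.Free.chooseBasis K k
  let e := TensorProduct.equivFinsuppOfBasisLeft (N := V) b
  have hfin := trivial_of_trivial_on_fixed (k := k) hpk (finrank k (k ⊗[K] V)) (k ⊗[K] V) A F H hFH P hP
    (bcHom k ρ) (bcHom k π) hcompat'
    (fun x μ U hU hx => eq_of_scalar F hnil hsol hfix (bcHom k ρ) (bcHom k π) hcompat' x μ U hU hx) c
    (fun t ht => e.injective (Finsupp.ext fun i => by
      rw [bcHom_coord]
      refine hc _ fun h hh => ?_
      rw [← bcHom_coord, ht h hh])) le_rfl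
  intro v
  have h1 := hfin (1 ⊗ₜ[K] v)
  rw [bcHom_tmul] at h1
  exact Module.FaithfullyFlat.tensorProduct_mk_injective (A := K) (B := k) V h1

end Cfsg.Agent.H582
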