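import Mathlib
import Cfsg.Agent.H583.FreeNil
import Cfsg.Agent.H583.PFixed
import Cfsg.Agent.OddOrderLocal.NilpotentCores

/-!
# Modules for a Frobenius group without fixed points of the kernel (not necessarily faithful)

* `hfree_of_fpf` : the module is free over the complement (operator form `HFree` of `H583.FreeOp`; the proof is the one
  of `S4396`, without the hypothesis of faithfulness);
* `coboundary` : cocycles of the complement are coboundaries;
* `exists_fixed_ne_zero` : the complement has nonzero fixed points.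
-/

set_option autoImplicit false

namespace Cfsg.Agent.H582

open Cfsg.Agent.H583.FreeOp Cfsg.Agent.H583.FreeNil Cfsg Cfsg.Agent
open scoped Pointwise

theorem hfree_of_fpf {k V A : Type*} [Field k] [AddCommGroup V] [Module k V] [Group A] [Finite A]
    (ρ : A →* Module.End k V) (Fk Hc : Subgroup A) [Fk.Normal] [Fintype Hc] [DecidableEq Hc]
    (hfrob : ∀ h ∈ Hc, h ≠ 1 → ∀ f ∈ Fk, h * f = f * h → f = 1) (hnil : Group.IsNilpotent ↥Fk)
    (hCF : ∀ v : V, (∀ f ∈ Fk, ρ f v = v) → v = 0) : HFree (ρ.comp Hc.subtype) 1 := by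
  -- the complement acts without fixed points on the kernel
  have hfpf : ∀ h ∈ Hc, h ≠ 1 → ∀ f ∈ Fk, h * f * h⁻¹ = f → f = 1 := by
    intro h hh hh1 f hf hcomm
    exact hfrob h hh hh1 f hf (mul_inv_eq_iff_eq_mul.1 hcomm)
  -- the part of the kernel of order prime to the characteristic
  obtain ⟨K, hKc, hKk, hKfix⟩ : ∃ K : Subgroup Fk, K.Characteristic ∧ (Nat.card K : k) ≠ 0 ∧
      ∀ v : V, (∀ x ∈ K, ρ (x : A) v = v) → v = 0 := by
    rcases CharP.exists k with ⟨p, hp⟩
    rcases CharP.char_is_prime_or_zero k p with hpp | hp0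
    · have : Fact p.Prime := ⟨hpp⟩
      refine ⟨pPrimeCore p Fk, Lib.Cores.pPrimeCore_characteristic p, ?_, ?_⟩
      · intro h0
        rw [CharP.cast_eq_zero_iff k p] at h0
        have h1 : (Nat.card (pPrimeCore p Fk)).Coprime p := Lib.Cores.pPrimeCore_coprime p
        rw [Nat.coprime_comm, Nat.Prime.coprime_iff_not_dvd hpp] at h1
        exact h1 h0
      · intro v hv
        by_contra hv0
        let U : Submodule k V :=
          { carrier := {w | ∀ x ∈ pPrimeCore p Fk, ρ (x : A) w = w}
            add_mem' := fun {a b} ha hb x hx => by rw [map_add, ha x hx, hb x hx]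
            zero_mem' := fun x _ => map_zero _
            smul_mem' := fun c w hw x hx => by rw [map_smul, hw x hx] }
        have hU0 : U ≠ ⊥ := by
          intro h
          have : v ∈ U := hv
          rw [h, Submodule.mem_bot] at this
          exact hv0 this
        have hnorm : (pPrimeCore p Fk).Normal := inferInstance
        let σ : ↥(pCore p Fk) →* Module.End k V :=
          (ρ.comp Fk.subtype).comp (pCore p Fk).subtype
        obtain ⟨w, hwU, hw0, hw⟩ := H583.PFixed.exists_fixed (Lib.Cores.pCore_isPGroup (G := Fk) p) σ U (by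
          intro a w hw x hx
          have h1 : ρ (x : A) (ρ ((a : Fk) : A) w) = ρ ((a : Fk) : A) (ρ (((a : Fk)⁻¹ * x * (a : Fk) : Fk) : A) w) := by
            have h2 : ∀ (s t : A) (u : V), ρ s (ρ t u) = ρ (s * t) u := fun s t u => by rw [map_mul]; rfl
            rw [h2, h2]
            congr 2
            simp only [Subgroup.coe_mul, Subgroup.coe_inv]
            group
          change ρ (x : A) (ρ ((a : Fk) : A) w) = ρ ((a : Fk) : A) w
          rw [h1, hw _ (by
            have := hnorm.conj_mem x hx (a : Fk)⁻¹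
            rwa [inv_inv] at this)]) hU0
        apply hw0
        apply hCF
        intro f hf
        have htop := OddOrderLocal.NilpotentCores.pCore_sup_pPrimeCore hnil p
        have h1 : (⟨f, hf⟩ : Fk) ∈ pCore p Fk ⊔ pPrimeCore p Fk := by rw [htop]; trivial
        obtain ⟨a, ha, b, hb, hab⟩ := Subgroup.mem_sup_of_normal_right.1 h1
        have h2 : f = (a : A) * b := (congrArg Subtype.val hab).symm
        rw [h2, map_mul]
        change ρ (a : A) (ρ (b : A) w) = w
        rw [hwU b hb]
        exact hw ⟨a, ha⟩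
    · subst hp0
      have : CharZero k := CharP.charP_to_charZero k
      refine ⟨⊤, inferInstance, ?_, ?_⟩
      · rw [Nat.cast_ne_zero]
        exact Nat.card_pos.ne'
      · intro v hv
        exact hCF v fun f hf => hv ⟨f, hf⟩ trivial
  have hKn : Group.IsNilpotent K := inferInstance
  let α : Hc →* MulAut K := (resAut K).comp (MulAut.conjNormal.comp Hc.subtype)
  have hα : ∀ (h : Hc) (x : K), (((α h x : K) : Fk) : A) = h * ((x : Fk) : A) * (h : A)⁻¹ := by
    intro h x
    change ((MulAut.conjNormal (h : A) (x : Fk) : Fk) : A) = _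
    exact MulAut.conjNormal_apply _ _
  let τ : K → Module.End k V := fun x => ρ ((x : Fk) : A)
  have hfree : HFree (ρ.comp Hc.subtype) (τ 1) := by
    refine hfree_nilpotent_aux (k := k) (ρ.comp Hc.subtype) K inferInstance α ?_ hKk τ ?_ ?_ ?_
    · intro h hh x hx
      have h1 : (((α h x : K) : Fk) : A) = ((x : Fk) : A) := congrArg (fun y : K => ((y : Fk) : A)) hx
      rw [hα] at h1
      have h2 := hfpf h h.2 (fun h3 => hh (Subtype.ext h3)) _ (x : Fk).2 h1
      exact Subtype.ext (Subtype.ext h2)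
    · intro a b
      exact map_mul ρ _ _
    · intro h x
      change ρ (h : A) * ρ ((x : Fk) : A) = ρ (((α h x : K) : Fk) : A) * ρ (h : A)
      rw [hα, ← map_mul, ← map_mul]
      congr 1
      group
    · have := Fintype.ofFinite K
      rw [finsum_eq_sum_of_fintype]
      ext v
      apply hKfix
      intro x hx
      rw [LinearMap.sum_apply, map_sum]
      refine Fintype.sum_equiv (Equiv.mulLeft (⟨x, hx⟩ : K)) _ _ (fun y => ?_)
      change ρ (x : A) (ρ ((y : Fk) : A) v) = ρ (((x * (y : Fk) : Fk)) : A) v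
      rw [Subgroup.coe_mul, map_mul]
      rfl
  have hτ1 : τ 1 = 1 := map_one ρ
  rw [hτ1] at hfree
  exact hfree

section Free

variable {k V H : Type*} [Field k] [AddCommGroup V] [Module k V] [Group H] [Fintype H] [DecidableEq H]

/-- Cocycles with values in a free module are coboundaries. -/
theorem coboundary (ρ : H →* Module.End k V) (hfree : HFree ρ 1) (z : H → V)
    (hz : ∀ g h, z (g * h) = z g + ρ g (z h)) : ∃ u : V, ∀ g, z g = u - ρ g u := by
  obtain ⟨π, -, -, -, hs⟩ := hfree
  refine ⟨∑ h, ρ h (π (ρ h⁻¹ (z h))), fun g => ?_⟩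
  have hs' : ∀ v, ∑ h, ρ h (π (ρ h⁻¹ v)) = v := by
    intro v
    have := congrArg (fun f => f v) hs
    simp only [LinearMap.sum_apply] at this
    exact this
  have hmul : ∀ (s t : H) (u : V), ρ s (ρ t u) = ρ (s * t) u := fun s t u => by rw [map_mul]; rfl
  have h1 : ρ g (∑ h, ρ h (π (ρ h⁻¹ (z h)))) = ∑ h, ρ (g * h) (π (ρ (g * h)⁻¹ (ρ g (z h)))) := by
    rw [map_sum]
    refine Finset.sum_congr rfl fun h _ => ?_
    rw [hmul, hmul, mul_inv_rev, inv_mul_cancel_right]
  have h2 : ∀ h, ρ g (z h) = z (g * h) - z g := by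
    intro h
    rw [hz]; abel
  have h3 : ∑ h, ρ (g * h) (π (ρ (g * h)⁻¹ (ρ g (z h)))) =
      (∑ h, ρ (g * h) (π (ρ (g * h)⁻¹ (z (g * h))))) - ∑ h, ρ (g * h) (π (ρ (g * h)⁻¹ (z g))) := by
    rw [← Finset.sum_sub_distrib]
    refine Finset.sum_congr rfl fun h _ => ?_
    rw [h2, map_sub, map_sub, map_sub]
  have h4 : ∑ h, ρ (g * h) (π (ρ (g * h)⁻¹ (z (g * h)))) = ∑ h, ρ h (π (ρ h⁻¹ (z h))) :=
    Fintype.sum_equiv (Equiv.mulLeft g) _ _ (fun h => rfl)
  have h5 : ∑ h, ρ (g * h) (π (ρ (g * h)⁻¹ (z g))) = ∑ h, ρ h (π (ρ h⁻¹ (z g))) :=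
    Fintype.sum_equiv (Equiv.mulLeft g) _ _ (fun h => rfl)
  rw [h1, h3, h4, h5, hs']
  abel

/-- A nonzero free module has nonzero fixed points. -/
theorem eq_zero_of_free (ρ : H →* Module.End k V) (hfree : HFree ρ 1)
    (hfix : ∀ v, (∀ h, ρ h v = v) → v = 0) (v : V) : v = 0 := by
  obtain ⟨π, -, -, hπ, hs⟩ := hfree
  have hmul : ∀ (s t : H) (u : V), ρ s (ρ t u) = ρ (s * t) u := fun s t u => by rw [map_mul]; rfl
  have h1 : ∀ w, π w = 0 := by
    intro w
    have h2 : ∑ h, ρ h (π w) = 0 := by
      refine hfix _ fun g => ?_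
      rw [map_sum]
      refine Fintype.sum_equiv (Equiv.mulLeft g) _ _ (fun h => ?_)
      rw [hmul]; rfl
    have h3 : ∑ h, π (ρ h (π w)) = π w := by
      have h4 : ∀ h, π (ρ h (π w)) = if h = 1 then π w else 0 := by
        intro h
        have := congrArg (fun f => f w) (hπ h)
        by_cases hh : h = 1
        · simpa [hh] using this
        · simpa [hh] using this
      simp_rw [h4]
      simp
    rw [← h3, ← map_sum, h2, map_zero]
  have h2 := congrArg (fun f => f v) hs
  simp only [LinearMap.sum_apply] at h2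
  have h3 : ∀ h, (ρ h * π * ρ h⁻¹) v = 0 := by
    intro h
    change ρ h (π (ρ h⁻¹ v)) = 0
    rw [h1, map_zero]
  simp_rw [h3] at h2
  simpa using h2.symm

end Free

end Cfsg.Agent.H582
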