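import Mathlib
import Cfsg.Agent.H582.CliffordField
import Cfsg.Agent.H582.FreeMod
import Cfsg.Agent.H582.Act
import Cfsg.Agent.Solvable.FrobeniusKernel
import Cfsg.Agent.S0042

/-!
# Frobenius groups of automorphisms: elementary abelian normal subgroups

`IsFrob F H` : `A = FH`, `F` a nilpotent normal subgroup of order prime to that of `H`, the non-identity elements of `H`
acting on `F` without fixed points.  `A` acts on the finite group `G` (not necessarily faithfully), `V` is an
`A`-invariant normal elementary abelian subgroup of `G`.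

* `isFrob_of_complement` : Frobenius groups;
* `lift_elemAb` : fixed points of `H` on `G / V` lift if `C_V(F) = 1`;
* `eq_one_elemAb` : `C_V(F) = 1 = C_V(H)` implies `V = 1`;
* `trivial_on_elemAb` : an element of an `A`-invariant `p`-subgroup of `G / V` centralising `C_V(H)` centralises `V`.
-/

set_option autoImplicit false

namespace Cfsg.Agent.H582

open Cfsg.Agent.H583.FreeOp

/-- `A = FH`, `F` nilpotent and normal, of order prime to that of `H`, the non-identity elements of `H` acting on `F`
without fixed points (`H = 1` and `F = 1` are allowed). -/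
structure IsFrob {A : Type*} [Group A] (F H : Subgroup A) : Prop extends IsFH F H where
  nil : Group.IsNilpotent F

theorem isFrob_of_complement {A : Type*} [Group A] [Finite A] (Fk Hc : Subgroup A) [hN : Fk.Normal]
    (hHc : Cfsg.IsFrobeniusComplement Hc) (hker : Cfsg.frobeniusKernel Hc = (Fk : Set A)) : IsFrob Fk Hc := by
  have hnil : Group.IsNilpotent Fk := by
    obtain ⟨N, hN1, -, hN3⟩ := Cfsg.Agent.S0042.result Hc hHc
    have : N = Fk := SetLike.coe_injective (by rw [hN1, hker])
    rwa [this] at hN3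
  have hcard : Nat.card Fk = Hc.index := by
    rw [← Cfsg.Agent.Solvable.FrobeniusKernel.card_kernel hHc, hker]; rfl
  refine ⟨⟨hN, ?_, ?_, ?_, inferInstance⟩, hnil⟩
  · have hinf : Fk ⊓ Hc = ⊥ := by
      rw [eq_bot_iff]
      intro x hx
      have h1 : x ∈ Cfsg.frobeniusKernel Hc := by rw [hker]; exact hx.1
      exact Subgroup.mem_bot.2 (Cfsg.Agent.Solvable.FrobeniusKernel.eq_one_of_mem_kernel_of_mem h1 hx.2)
    have hc : Subgroup.IsComplement' Fk Hc := by
      refine Subgroup.isComplement'_of_card_mul_and_disjoint ?_ (disjoint_iff.2 hinf)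
      rw [hcard, mul_comm, Subgroup.card_mul_index]
    exact hc.sup_eq_top
  · intro h hh h1 f hf hfh
    have h2 : f ∈ Hc := Cfsg.Agent.Solvable.FrobeniusKernel.centralizer_le hHc hh h1
      (Subgroup.mem_centralizer_singleton_iff.2 hfh.symm)
    have h3 : f ∈ Cfsg.frobeniusKernel Hc := by rw [hker]; exact hf
    exact Cfsg.Agent.Solvable.FrobeniusKernel.eq_one_of_mem_kernel_of_mem h3 h2
  · rw [hcard]
    exact Cfsg.Agent.Solvable.FrobeniusKernel.coprime_index_card hHc

section Elem

variable {A G : Type*} [Group A] [Finite A] [Group G] [Finite G] [MulDistribMulAction A G] {F H : Subgroup A}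

/-- `F` has no fixed points on the quotient by a solvable invariant normal subgroup. -/
theorem fpf_quot (hA : IsFrob F H) (hfix : ∀ g : G, (∀ f ∈ F, f • g = g) → g = 1) (N : Subgroup G)
    (hN : ∀ (a : A) (n : G), n ∈ N → a • n ∈ N) (hsol : Group.IsSolvable N) (g : G)
    (hg : ∀ f ∈ F, g⁻¹ * f • g ∈ N) : g ∈ N :=
  mem_of_fixed_coset (F := F) hA.nil (fun g h => hfix g fun f hf => h ⟨f, hf⟩) N (fun f n hn => hN f n hn) hsol g
    (fun f => hg f f.2)

omit [Finite G] in
theorem lift_elemAb (hA : IsFrob F H) (V : Subgroup G) (hVA : ∀ (a : A) (n : G), n ∈ V → a • n ∈ V)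
    {q : ℕ} [Fact q.Prime] (hVc : ∀ x ∈ V, ∀ y ∈ V, x * y = y * x) (hVq : ∀ x ∈ V, x ^ q = 1)
    (hfix : ∀ v ∈ V, (∀ f ∈ F, f • v = v) → v = 1) (g : G) (hg : ∀ h ∈ H, g⁻¹ * h • g ∈ V) :
    ∃ v ∈ V, ∀ h ∈ H, h • (g * v) = g * v := by
  classical
  have hFn := hA.normal
  have := Fintype.ofFinite H
  let _ : CommGroup V := { (inferInstance : Group V) with mul_comm := fun x y => Subtype.ext (hVc x x.2 y y.2) }
  let _ : MulDistribMulAction A V := subAct V hVA
  let _ : Module (ZMod q) (Additive V) := AddCommGroup.zmodModule (n := q) (fun x =>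
    congrArg Additive.ofMul (Subtype.ext (hVq _ (Additive.toMul x).2) : (Additive.toMul x) ^ q = 1))
  let ρ : A →* Module.End (ZMod q) (Additive V) := (autToEnd q V).comp (MulDistribMulAction.toMulAut A V)
  have hρ : ∀ (a : A) (v : V), ρ a (Additive.ofMul v) = Additive.ofMul (a • v) := fun _ _ => rfl
  have hfree := hfree_of_fpf ρ F H hA.frob hA.nil (by
    intro v hv
    have := hfix (Additive.toMul v : V) (Additive.toMul v).2 (fun f hf => congrArg Subtype.val (congrArg Additive.toMul (hv f hf)))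
    exact congrArg Additive.ofMul (Subtype.ext this : Additive.toMul v = 1))
  obtain ⟨u, hu⟩ := coboundary (ρ.comp H.subtype) hfree (fun h => Additive.ofMul ⟨g⁻¹ * (h : A) • g, hg h h.2⟩) (by
    intro a b
    change Additive.ofMul (_ : V) = Additive.ofMul (_ : V)
    congr 1
    apply Subtype.ext
    change g⁻¹ * ((a * b : H) : A) • g = (g⁻¹ * (a : A) • g) * (a : A) • (g⁻¹ * (b : A) • g)
    rw [Subgroup.coe_mul, mul_smul, smul_mul', smul_inv']
    group)
  refine ⟨(Additive.toMul u : V), (Additive.toMul u).2, fun h hh => ?_⟩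
  have h1 := congrArg (fun x => ((Additive.toMul x : V) : G)) (hu ⟨h, hh⟩)
  have h2 : g⁻¹ * h • g = ((Additive.toMul u : V) : G) * (h • ((Additive.toMul u : V) : G))⁻¹ := by
    rw [← div_eq_mul_inv]
    exact h1
  rw [smul_mul']
  have h4 : h • g = g * (g⁻¹ * h • g) := by group
  rw [h4, h2]; group

omit [Finite G] in
theorem eq_one_elemAb (hA : IsFrob F H) (V : Subgroup G) (hVA : ∀ (a : A) (n : G), n ∈ V → a • n ∈ V)
    {q : ℕ} [Fact q.Prime] (hVc : ∀ x ∈ V, ∀ y ∈ V, x * y = y * x) (hVq : ∀ x ∈ V, x ^ q = 1)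
    (hfix : ∀ v ∈ V, (∀ f ∈ F, f • v = v) → v = 1) (hH : ∀ v ∈ V, (∀ h ∈ H, h • v = v) → v = 1) (v : G)
    (hv : v ∈ V) : v = 1 := by
  classical
  have hFn := hA.normal
  have := Fintype.ofFinite H
  let _ : CommGroup V := { (inferInstance : Group V) with mul_comm := fun x y => Subtype.ext (hVc x x.2 y y.2) }
  let _ : MulDistribMulAction A V := subAct V hVA
  let _ : Module (ZMod q) (Additive V) := AddCommGroup.zmodModule (n := q) (fun x =>
    congrArg Additive.ofMul (Subtype.ext (hVq _ (Additive.toMul x).2) : (Additive.toMul x) ^ q = 1))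
  let ρ : A →* Module.End (ZMod q) (Additive V) := (autToEnd q V).comp (MulDistribMulAction.toMulAut A V)
  have hfree := hfree_of_fpf ρ F H hA.frob hA.nil (by
    intro v hv
    have := hfix (Additive.toMul v : V) (Additive.toMul v).2 (fun f hf => congrArg Subtype.val (congrArg Additive.toMul (hv f hf)))
    exact congrArg Additive.ofMul (Subtype.ext this : Additive.toMul v = 1))
  have h1 := eq_zero_of_free (ρ.comp H.subtype) hfree (by
    intro v hv
    have := hH (Additive.toMul v : V) (Additive.toMul v).2 (fun f hf => congrArg Subtype.val (congrArg Additive.toMul (hv ⟨f, hf⟩)))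
    exact congrArg Additive.ofMul (Subtype.ext this : Additive.toMul v = 1)) (Additive.ofMul ⟨v, hv⟩)
  exact congrArg Subtype.val (congrArg Additive.toMul h1)

theorem trivial_on_elemAb (hA : IsFrob F H) {p q : ℕ} [Fact p.Prime] [hq : Fact q.Prime] (hpq : p ≠ q)
    (hfix : ∀ g : G, (∀ f ∈ F, f • g = g) → g = 1)
    (V : Subgroup G) [V.Normal] (hVA : ∀ (a : A) (n : G), n ∈ V → a • n ∈ V)
    (hVc : ∀ x ∈ V, ∀ y ∈ V, x * y = y * x) (hVq : ∀ x ∈ V, x ^ q = 1)
    (K : Subgroup (G ⧸ V)) (hK : IsPGroup p K) (hKA : ∀ (a : A) (g : G), (g : G ⧸ V) ∈ K → ((a • g : G) : G ⧸ V) ∈ K)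
    (d : G) (hd : (d : G ⧸ V) ∈ K) (hdc : ∀ v ∈ V, (∀ h ∈ H, h • v = v) → d * v * d⁻¹ = v) :
    ∀ v ∈ V, d * v * d⁻¹ = v := by
  classical
  have hFn := hA.normal
  let _ : CommGroup V := { (inferInstance : Group V) with mul_comm := fun x y => Subtype.ext (hVc x x.2 y y.2) }
  let _ : MulDistribMulAction A V := subAct V hVA
  let _ : Module (ZMod q) (Additive V) := AddCommGroup.zmodModule (n := q) (fun x =>
    congrArg Additive.ofMul (Subtype.ext (hVq _ (Additive.toMul x).2) : (Additive.toMul x) ^ q = 1))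
  let ρ : A →* Module.End (ZMod q) (Additive V) := (autToEnd q V).comp (MulDistribMulAction.toMulAut A V)
  have hsolV : Group.IsSolvable V := Group.isSolvable_of_comm mul_comm
  let _ : MulDistribMulAction A (G ⧸ V) := quotAct V hVA
  have hKA' : ∀ (a : A) (x : G ⧸ V), x ∈ K → a • x ∈ K := by
    intro a x hx
    induction x using QuotientGroup.induction_on with
    | H g => exact hKA a g hx
  let _ : MulDistribMulAction A K := subAct K hKA'
  -- the action of `G / V` on `V`
  let π₀ : G ⧸ V →* MulAut V := QuotientGroup.lift V MulAut.conjNormal (by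
    intro x hx
    ext v
    rw [MulAut.conjNormal_apply, hVc x hx v v.2]
    simp)
  have hπ₀ : ∀ (g : G) (v : V), ((π₀ (g : G ⧸ V) v : V) : G) = g * v * g⁻¹ := by
    intro g v
    change ((MulAut.conjNormal g v : V) : G) = _
    exact MulAut.conjNormal_apply g v
  let π : K →* Module.End (ZMod q) (Additive V) := (autToEnd q V).comp (π₀.comp K.subtype)
  have hfixK : ∀ x : K, (∀ f ∈ F, f • x = x) → x = 1 := by
    rintro ⟨x, hx⟩ h
    induction x using QuotientGroup.induction_on with
    | H g =>
      apply Subtype.ext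
      change ((g : G) : G ⧸ V) = 1
      rw [QuotientGroup.eq_one_iff]
      refine fpf_quot hA hfix V hVA hsolV g fun f hf => ?_
      have h1 : ((f • g : G) : G ⧸ V) = (g : G ⧸ V) := congrArg Subtype.val (h f hf)
      rw [← QuotientGroup.eq, h1]
  have hcompat : ∀ (a : A) (x : K) (v : Additive V), ρ a (π x v) = π (a • x) (ρ a v) := by
    rintro a ⟨x, hx⟩ v
    induction x using QuotientGroup.induction_on with
    | H g =>
      have h1 : a • (π₀ (g : G ⧸ V) (Additive.toMul v)) = π₀ ((a • g : G) : G ⧸ V) (a • (Additive.toMul v : V)) := by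
        apply Subtype.ext
        have h2 : ((a • (π₀ (g : G ⧸ V) (Additive.toMul v)) : V) : G) = a • ((π₀ (g : G ⧸ V) (Additive.toMul v) : V) : G) := rfl
        have h3 : ((a • (Additive.toMul v : V) : V) : G) = a • ((Additive.toMul v : V) : G) := rfl
        rw [h2, hπ₀, hπ₀, h3, smul_mul', smul_mul', smul_inv']
      exact congrArg Additive.ofMul h1
  have hpK : ((p : ℕ) : ZMod q) ≠ 0 := by
    rw [Ne, ZMod.natCast_eq_zero_iff]
    intro h
    exact hpq ((Nat.prime_dvd_prime_iff_eq hq.out Fact.out).1 h).symm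
  have hfin := trivial_field hpK (Additive V) A F H hA.toIsFH hA.nil K hK hfixK ρ π hcompat ⟨d, hd⟩ (by
    intro v hv
    have h1 := hdc (Additive.toMul v : V) (Additive.toMul v).2
      (fun h hh => congrArg Subtype.val (congrArg Additive.toMul (hv h hh)))
    have h2 : π₀ (d : G ⧸ V) (Additive.toMul v) = Additive.toMul v := Subtype.ext (by rw [hπ₀, h1])
    exact congrArg Additive.ofMul h2)
  intro v hv
  have h1 := congrArg (fun x => ((Additive.toMul x : V) : G)) (hfin (Additive.ofMul ⟨v, hv⟩))
  have h2 : ((π₀ (d : G ⧸ V) ⟨v, hv⟩ : V) : G) = v := h1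
  rwa [hπ₀] at h2

end Elem

end Cfsg.Agent.H582
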