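import Mathlib
import Cfsg.Agent.H582.Elem
import Cfsg.Agent.Lib.Cores

/-!
# Frobenius groups of automorphisms: the `p`-core of the fixed points of the complement (E. I. Khukhro)

`IsFrob F H`, `A = FH` acts on the finite solvable group `G` and `F` has no fixed points (neither faithfulness of the
action nor coprimeness is assumed).

* `le_pCore` : a `p`-subgroup of `C = C_G(H)` normalised by `C` lies in `O_p(G)`;
* `lift` : fixed points of `H` on `G / N` lift to `G`;
* `eq_one` : `C_G(H) = 1` implies `G = 1`.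
-/

set_option autoImplicit false

namespace Cfsg.Agent.H582

open Subgroup Cfsg

universe u w

/-- A `p`-subgroup of the Fitting subgroup lies in `O_p`. -/
theorem le_pCore_of_le_fitting {G : Type*} [Group G] [Finite G] {p : ℕ} [Fact p.Prime] {D : Subgroup G}
    (hD : IsPGroup p D) (h : D ≤ fittingSubgroup G) : D ≤ pCore p G := by
  have hnil := Lib.Cores.fittingSubgroup_isNilpotent (G := G)
  have hD' : IsPGroup p (D.subgroupOf (fittingSubgroup G)) := hD.comap_subtype
  obtain ⟨P, hP⟩ := hD'.exists_le_sylow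
  have hPn : P.Normal := inferInstance
  have hPc : (P : Subgroup (fittingSubgroup G)).Characteristic := Sylow.characteristic_of_normal P inferInstance
  have hFn : (fittingSubgroup G).Normal := Lib.Cores.fittingSubgroup_normal
  have h1 : (P : Subgroup (fittingSubgroup G)).map (fittingSubgroup G).subtype ≤ pCore p G :=
    Lib.Cores.le_pCore inferInstance (P.isPGroup'.map _)
  intro x hx
  exact h1 ⟨⟨x, h hx⟩, hP hx, rfl⟩

/-- A `p`-subgroup `D` centralising the normal abelian subgroup `V`, with image in `O_p(G / V)`, lies in `O_p(G)`. -/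
theorem le_pCore_of_centralizer {G : Type*} [Group G] [Finite G] {p : ℕ} [Fact p.Prime] {D : Subgroup G}
    (hD : IsPGroup p D) (V : Subgroup G) [V.Normal]
    (h1 : D ≤ (pCore p (G ⧸ V)).comap (QuotientGroup.mk' V)) (h2 : ∀ d ∈ D, ∀ v ∈ V, d * v * d⁻¹ = v) :
    D ≤ pCore p G := by
  have hn : (pCore p (G ⧸ V)).Normal := Lib.Cores.pCore_normal p
  have hcn : (Subgroup.centralizer (V : Set G)).Normal := inferInstance
  set L : Subgroup G := (pCore p (G ⧸ V)).comap (QuotientGroup.mk' V) ⊓ Subgroup.centralizer (V : Set G) with hL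
  have hLn : L.Normal := inferInstance
  have hDL : D ≤ L := le_inf h1 (fun d hd => Subgroup.mem_centralizer_iff.2 fun v hv => by
    have := h2 d hd v hv
    rw [mul_inv_eq_iff_eq_mul] at this
    exact this.symm)
  have hnil : Group.IsNilpotent L := by
    let f : L →* pCore p (G ⧸ V) := ((QuotientGroup.mk' V).comp L.subtype).codRestrict _ (fun x => x.2.1)
    have hpn : Group.IsNilpotent (pCore p (G ⧸ V)) := (Lib.Cores.pCore_isPGroup p).isNilpotent
    refine Subgroup.isNilpotent_of_ker_le_center f ?_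
    intro x hx
    have hxV : (x : G) ∈ V := by
      rw [← QuotientGroup.eq_one_iff]
      exact congrArg Subtype.val (MonoidHom.mem_ker.1 hx)
    rw [Subgroup.mem_center_iff]
    intro y
    apply Subtype.ext
    exact ((Subgroup.mem_centralizer_iff.1 y.2.2) x hxV).symm
  exact le_pCore_of_le_fitting hD (hDL.trans (Lib.Cores.le_fittingSubgroup hLn hnil))

section

variable {A : Type w} [Group A] {F H : Subgroup A}

/-- A characteristic subgroup is invariant under the acting group. -/
theorem smul_mem_of_char {G : Type*} [Group G] [MulDistribMulAction A G] (V : Subgroup G) (hV : V.Characteristic)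
    (a : A) (v : G) (hv : v ∈ V) : a • v ∈ V :=
  (Subgroup.characteristic_iff_le_comap.1 hV) (MulDistribMulAction.toMulEquiv G a) hv

theorem le_pCore_aux [Finite A] (hA : IsFrob F H) (p : ℕ) [Fact p.Prime] :
    ∀ (n : ℕ) (G : Type u) [Group G] [Finite G] [MulDistribMulAction A G] (_ : Group.IsSolvable G)
      (_ : ∀ g : G, (∀ f ∈ F, f • g = g) → g = 1) (D : Subgroup G) (_ : IsPGroup p D)
      (_ : ∀ d ∈ D, ∀ h ∈ H, h • d = d) (_ : ∀ x : G, (∀ h ∈ H, h • x = x) → ∀ d ∈ D, x * d * x⁻¹ ∈ D),
      Nat.card G ≤ n → D ≤ pCore p G := by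
  intro n
  induction n with
  | zero =>
    intro G _ _ _ _ _ D _ _ _ hn
    exact absurd hn (by have := Nat.card_pos (α := G); omega)
  | succ n ih =>
    intro G _ _ _ hsol hfix D hD hDH hDn hn
    rcases subsingleton_or_nontrivial G with hG | hG
    · intro x _
      rw [Subsingleton.elim x 1]
      exact one_mem _
    obtain ⟨q, hq, -, V, hVchar, hVbot, hVc, hVq⟩ := exists_char_elemAb G hsol
    have : Fact q.Prime := ⟨hq⟩
    have hVA : ∀ (a : A) (v : G), v ∈ V → a • v ∈ V := smul_mem_of_char V hVchar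
    have hsolV : Group.IsSolvable V := inferInstance
    have hlift : ∀ g : G, (∀ h ∈ H, g⁻¹ * h • g ∈ V) → ∃ v ∈ V, ∀ h ∈ H, h • (g * v) = g * v := fun g hg =>
      lift_elemAb hA V hVA hVc hVq (fun v _ h => hfix v h) g hg
    have hquot := fpf_quot hA hfix V hVA hsolV
    have hcard : Nat.card (G ⧸ V) ≤ n := by
      have h1 := Subgroup.card_mul_index V
      rw [Subgroup.index] at h1
      have h2 : 1 < Nat.card V := by
        rw [Subgroup.one_lt_card_iff_ne_bot]
        exact hVbot
      have h3 : 0 < Nat.card (G ⧸ V) := Nat.card_pos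
      nlinarith
    let _ : MulDistribMulAction A (G ⧸ V) := quotAct V hVA
    have hact : ∀ (a : A) (g : G), a • (g : G ⧸ V) = ((a • g : G) : G ⧸ V) := fun _ _ => rfl
    have hDbar : D.map (QuotientGroup.mk' V) ≤ pCore p (G ⧸ V) := by
      refine ih (G ⧸ V) inferInstance ?_ (D.map (QuotientGroup.mk' V)) (hD.map _) ?_ ?_ hcard
      · intro x hx
        induction x using QuotientGroup.induction_on with
        | H g =>
          rw [QuotientGroup.eq_one_iff]
          refine hquot g fun f hf => ?_
          rw [← QuotientGroup.eq, ← hact, hx f hf]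
      · rintro _ ⟨d, hd, rfl⟩ h hh
        change h • (d : G ⧸ V) = d
        rw [hact, hDH d hd h hh]
      · intro x hx
        induction x using QuotientGroup.induction_on with
        | H g =>
          rintro _ ⟨d, hd, rfl⟩
          obtain ⟨v, hv, hgv⟩ := hlift g (fun h hh => by rw [← QuotientGroup.eq, ← hact, hx h hh])
          refine ⟨(g * v) * d * (g * v)⁻¹, hDn _ hgv d hd, ?_⟩
          have h1 : ((g * v : G) : G ⧸ V) = g := by
            rw [QuotientGroup.mk_mul, (QuotientGroup.eq_one_iff v).2 hv, mul_one]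
          change (((g * v) * d * (g * v)⁻¹ : G) : G ⧸ V) = (g : G ⧸ V) * (d : G ⧸ V) * (g : G ⧸ V)⁻¹
          rw [QuotientGroup.mk_mul, QuotientGroup.mk_mul, QuotientGroup.mk_inv, h1]
    have hDK : D ≤ (pCore p (G ⧸ V)).comap (QuotientGroup.mk' V) := Subgroup.map_le_iff_le_comap.1 hDbar
    by_cases hpq : p = q
    · subst hpq
      have hVp : IsPGroup p V := fun v => ⟨1, by
        rw [pow_one]
        exact Subtype.ext (hVq v v.2)⟩
      rw [Lib.Cores.comap_mk_pCore p hVp] at hDK
      exact hDK
    · refine le_pCore_of_centralizer hD V hDK fun d hd => ?_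
      have hcharK : (pCore p (G ⧸ V)).Characteristic := Lib.Cores.pCore_characteristic p
      refine trivial_on_elemAb hA hpq hfix V hVA hVc hVq (pCore p (G ⧸ V)) (Lib.Cores.pCore_isPGroup p) ?_ d
        (hDK hd) ?_
      · intro a g hg
        rw [← hact]
        exact smul_mem_of_char _ hcharK a _ hg
      · intro v hv hvH
        -- `v d v⁻¹ d⁻¹ ∈ D ∩ V = 1`
        have h1 : v * d * v⁻¹ * d⁻¹ ∈ D := D.mul_mem (hDn v hvH d hd) (D.inv_mem hd)
        have h2 : v * d * v⁻¹ * d⁻¹ ∈ V := by
          have h3 : d * v⁻¹ * d⁻¹ ∈ V := Subgroup.Normal.conj_mem inferInstance _ (V.inv_mem hv) d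
          have h4 : v * d * v⁻¹ * d⁻¹ = v * (d * v⁻¹ * d⁻¹) := by group
          rw [h4]
          exact V.mul_mem hv h3
        have h5 : v * d * v⁻¹ * d⁻¹ = 1 := by
          obtain ⟨k, hk⟩ := hD ⟨_, h1⟩
          have h6 : (v * d * v⁻¹ * d⁻¹) ^ p ^ k = 1 := congrArg Subtype.val hk
          have h7 := hVq _ h2
          have h8 : Nat.Coprime (p ^ k) q :=
            Nat.Coprime.pow_left k ((Nat.coprime_primes Fact.out hq).2 hpq)
          have h9 := pow_gcd_eq_one.2 ⟨h6, h7⟩
          rw [h8.gcd_eq_one, pow_one] at h9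
          exact h9
        have h6 : v * d = d * v := by
          rw [mul_inv_eq_one, mul_inv_eq_iff_eq_mul] at h5
          exact h5
        rw [← h6]; group

/-- **The `p`-core of the fixed points**: a `p`-subgroup of `C_G(H)` normalised by `C_G(H)` lies in `O_p(G)`. -/
theorem le_pCore [Finite A] (hA : IsFrob F H) (p : ℕ) [Fact p.Prime] {G : Type u} [Group G] [Finite G]
    [MulDistribMulAction A G] (hsol : Group.IsSolvable G) (hfix : ∀ g : G, (∀ f ∈ F, f • g = g) → g = 1)
    (D : Subgroup G) (hD : IsPGroup p D) (hDH : ∀ d ∈ D, ∀ h ∈ H, h • d = d)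
    (hDn : ∀ x : G, (∀ h ∈ H, h • x = x) → ∀ d ∈ D, x * d * x⁻¹ ∈ D) : D ≤ pCore p G :=
  le_pCore_aux hA p _ G hsol hfix D hD hDH hDn le_rfl

/-- If `H` has no fixed points then the group is trivial. -/
theorem eq_one [Finite A] (hA : IsFrob F H) {G : Type u} [Group G] [Finite G]
    [MulDistribMulAction A G] (hsol : Group.IsSolvable G) (hfix : ∀ g : G, (∀ f ∈ F, f • g = g) → g = 1)
    (hH : ∀ g : G, (∀ h ∈ H, h • g = g) → g = 1) (g : G) : g = 1 := by
  rcases subsingleton_or_nontrivial G with hG | hG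
  · exact Subsingleton.elim _ _
  obtain ⟨q, hq, -, V, hVchar, hVbot, hVc, hVq⟩ := exists_char_elemAb G hsol
  have : Fact q.Prime := ⟨hq⟩
  have hVA : ∀ (a : A) (v : G), v ∈ V → a • v ∈ V := smul_mem_of_char V hVchar
  exfalso
  apply hVbot
  rw [eq_bot_iff]
  intro v hv
  rw [Subgroup.mem_bot]
  exact eq_one_elemAb hA V hVA hVc hVq (fun v _ h => hfix v h) (fun v _ h => hH v h) v hv

end

end Cfsg.Agent.H582
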