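import Mathlib
import Cfsg.Agent.H582.Main
import Cfsg.Agent.OddOrderLocal.PiCore
import Cfsg.Agent.OddOrderLocal.PLengthOne

/-!
# Frobenius groups of automorphisms: `π`-cores, Fitting subgroup and upper `p`-series of the fixed points

`IsFrob F H`, `A = FH` acts on the finite solvable group `G`, `F` has no fixed points, `C = C_G(H)`.

* `lift` : fixed points of `H` on `G / N` lift;
* `le_piCore` : a `π`-subgroup of `C` normalised by `C` lies in `O_π(G)`;
* `fitting_eq`, `piCore_eq`, `upperPSeries_eq`, `pLengthLE_iff`.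
-/

set_option autoImplicit false

namespace Cfsg.Agent.H582

open Subgroup Cfsg

universe u w

variable {A : Type w} [Group A] {F H : Subgroup A}

theorem lift_aux [Finite A] (hA : IsFrob F H) :
    ∀ (n : ℕ) (G : Type u) [Group G] [Finite G] [MulDistribMulAction A G] (N : Subgroup G) [N.Normal]
      (_ : Group.IsSolvable N) (_ : ∀ (a : A) (n : G), n ∈ N → a • n ∈ N)
      (_ : ∀ g ∈ N, (∀ f ∈ F, f • g = g) → g = 1) (g : G) (_ : ∀ h ∈ H, g⁻¹ * h • g ∈ N),
      Nat.card N ≤ n → ∃ v ∈ N, ∀ h ∈ H, h • (g * v) = g * v := by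
  intro n
  induction n with
  | zero =>
    intro G _ _ _ N _ _ _ _ g _ hn
    exact absurd hn (by have := Nat.card_pos (α := N); omega)
  | succ n ih =>
    intro G _ _ _ N hNn hsol hNA hfix g hg hn
    rcases subsingleton_or_nontrivial N with hN1 | hN1
    · refine ⟨1, N.one_mem, fun h hh => ?_⟩
      have h1 : g⁻¹ * h • g = 1 := congrArg Subtype.val (Subsingleton.elim (⟨_, hg h hh⟩ : N) 1)
      rw [inv_mul_eq_one] at h1
      rw [mul_one, ← h1]
    obtain ⟨q, hq, -, V', hVchar, hVbot, hVc, hVq⟩ := exists_char_elemAb N hsol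
    have : Fact q.Prime := ⟨hq⟩
    set V : Subgroup G := V'.map N.subtype with hV
    have hVN : V ≤ N := Subgroup.map_subtype_le V'
    have hVn : V.Normal := inferInstance
    have hVA : ∀ (a : A) (v : G), v ∈ V → a • v ∈ V := by
      rintro a _ ⟨v, hv, rfl⟩
      let _ : MulDistribMulAction A N := subAct N hNA
      exact ⟨a • v, smul_mem_of_char V' hVchar a v hv, rfl⟩
    have hVc' : ∀ x ∈ V, ∀ y ∈ V, x * y = y * x := by
      rintro _ ⟨x, hx, rfl⟩ _ ⟨y, hy, rfl⟩
      exact congrArg Subtype.val (hVc x hx y hy)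
    have hVq' : ∀ x ∈ V, x ^ q = 1 := by
      rintro _ ⟨x, hx, rfl⟩
      exact congrArg Subtype.val (hVq x hx)
    have hsolV : Group.IsSolvable V := Group.isSolvable_of_comm (fun a b => Subtype.ext (hVc' a a.2 b b.2))
    have hfixV : ∀ v ∈ V, (∀ f ∈ F, f • v = v) → v = 1 := fun v hv h => hfix v (hVN hv) h
    let _ : MulDistribMulAction A (G ⧸ V) := quotAct V hVA
    have hact : ∀ (a : A) (g : G), a • (g : G ⧸ V) = ((a • g : G) : G ⧸ V) := fun _ _ => rfl
    have hcard : Nat.card (N.map (QuotientGroup.mk' V)) ≤ n := by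
      have h1 : Nat.card N = Nat.card V * Nat.card (N.map (QuotientGroup.mk' V)) := by
        rw [← OddOrderLocal.PiCore.card_comap_mk', Subgroup.comap_map_eq, QuotientGroup.ker_mk', sup_eq_left.2 hVN]
      have h2 : 1 < Nat.card V := by
        rw [hV, Subgroup.card_map_of_injective N.subtype_injective, Subgroup.one_lt_card_iff_ne_bot]
        exact hVbot
      have h3 : 0 < Nat.card (N.map (QuotientGroup.mk' V)) := Nat.card_pos
      nlinarith
    have hsolN : Group.IsSolvable (N.map (QuotientGroup.mk' V)) :=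
      Group.isSolvable_of_surjective (f := (QuotientGroup.mk' V).subgroupMap N) (MonoidHom.subgroupMap_surjective _ _)
    obtain ⟨x, hx, hgx⟩ := ih (G ⧸ V) (N.map (QuotientGroup.mk' V)) hsolN (by
        rintro a _ ⟨m, hm, rfl⟩
        exact ⟨a • m, hNA a m hm, rfl⟩) (by
        rintro _ ⟨m, hm, rfl⟩ h
        have h1 : ∀ f : F, m⁻¹ * f • m ∈ V := by
          intro f
          rw [← QuotientGroup.eq]
          exact (h f f.2).symm
        obtain ⟨v, hv, h2⟩ := exists_fixed_of_coset (F := F) hA.nil V (fun f n hn => hVA f n hn) hsolV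
          (fun v hv h => hfixV v hv fun f hf => h ⟨f, hf⟩) m h1
        have h3 := hfix (m * v) (N.mul_mem hm (hVN hv)) (fun f hf => h2 ⟨f, hf⟩)
        change (m : G ⧸ V) = 1
        rw [QuotientGroup.eq_one_iff, mul_eq_one_iff_eq_inv.1 h3]
        exact V.inv_mem hv) (g : G ⧸ V) (by
        intro h hh
        exact ⟨g⁻¹ * h • g, hg h hh, rfl⟩) hcard
    obtain ⟨m, hm, rfl⟩ := hx
    obtain ⟨v, hv, h1⟩ := lift_elemAb hA V hVA hVc' hVq' hfixV (g * m) (by
      intro h hh
      rw [← QuotientGroup.eq]
      exact (hgx h hh).symm)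
    refine ⟨m * v, N.mul_mem hm (hVN hv), fun h hh => ?_⟩
    rw [← mul_assoc]
    exact h1 h hh

/-- Fixed points of the complement on `G / N` lift. -/
theorem lift [Finite A] (hA : IsFrob F H) {G : Type u} [Group G] [Finite G] [MulDistribMulAction A G]
    (N : Subgroup G) [N.Normal] (hsol : Group.IsSolvable N) (hNA : ∀ (a : A) (n : G), n ∈ N → a • n ∈ N)
    (hfix : ∀ g ∈ N, (∀ f ∈ F, f • g = g) → g = 1) (g : G) (hg : ∀ h ∈ H, g⁻¹ * h • g ∈ N) :
    ∃ v ∈ N, ∀ h ∈ H, h • (g * v) = g * v :=
  lift_aux hA _ G N hsol hNA hfix g hg le_rfl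

theorem le_piCore_aux [Finite A] (hA : IsFrob F H) (π : Set ℕ) :
    ∀ (n : ℕ) (G : Type u) [Group G] [Finite G] [MulDistribMulAction A G] (_ : Group.IsSolvable G)
      (_ : ∀ g : G, (∀ f ∈ F, f • g = g) → g = 1) (D : Subgroup G) (_ : ∀ p : ℕ, p.Prime → p ∣ Nat.card D → p ∈ π)
      (_ : ∀ d ∈ D, ∀ h ∈ H, h • d = d) (_ : ∀ x : G, (∀ h ∈ H, h • x = x) → ∀ d ∈ D, x * d * x⁻¹ ∈ D),
      Nat.card G ≤ n → D ≤ piCore π G := by
  intro n
  induction n with
  | zero =>
    intro G _ _ _ _ _ D _ _ _ hn
    exact absurd hn (by have := Nat.card_pos (α := G); omega)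
  | succ n ih =>
    intro G _ _ _ hsol hfix D hD hDH hDn hn
    rcases subsingleton_or_nontrivial (piCore π G) with hN1 | hN1
    · -- `O_π(G) = 1`
      rcases subsingleton_or_nontrivial D with hD1 | hD1
      · intro x hx
        have : x = 1 := congrArg Subtype.val (Subsingleton.elim (⟨x, hx⟩ : D) 1)
        rw [this]; exact one_mem _
      exfalso
      obtain ⟨q, hq, hqD, V, hVchar, hVbot, -, hVq⟩ := exists_char_elemAb D inferInstance
      have hqF : Fact q.Prime := ⟨hq⟩
      have h1 : V.map D.subtype ≤ pCore q G := by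
        refine le_pCore hA q hsol hfix _ ?_ ?_ ?_
        · rintro ⟨_, v, hv, rfl⟩
          refine ⟨1, ?_⟩
          rw [pow_one]
          exact Subtype.ext (congrArg (fun z : D => (z : G)) (hVq v hv))
        · rintro _ ⟨v, hv, rfl⟩ h hh
          exact hDH v v.2 h hh
        · rintro x hx _ ⟨v, hv, rfl⟩
          have hxn : x ∈ normalizer (D : Set G) := by
            rw [Subgroup.mem_normalizer_iff]
            intro y
            refine ⟨fun hy => hDn x hx y hy, fun hy => ?_⟩
            have h2 := hDn x⁻¹ (fun h hh => by rw [smul_inv', hx h hh]) _ hy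
            have h3 : x⁻¹ * (x * y * x⁻¹) * x⁻¹⁻¹ = y := by group
            rwa [h3] at h2
          have h4 := (Subgroup.characteristic_iff_le_comap.1 hVchar) (MulAut.conjNormal (H := D.subgroupOf (normalizer (D : Set G))) ⟨x, hxn⟩ |> fun φ =>
            ((Subgroup.subgroupOfEquivOfLe (le_normalizer (H := D))).symm.trans φ).trans (Subgroup.subgroupOfEquivOfLe (le_normalizer (H := D)))) hv
          exact ⟨_, h4, rfl⟩
      have h2 : pCore q G ≤ piCore π G := by
        refine OddOrderLocal.PiCore.le_piCore (Lib.Cores.pCore_normal q) ?_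
        intro r hr hrd
        obtain ⟨k, hk⟩ := (IsPGroup.iff_card).1 (Lib.Cores.pCore_isPGroup (G := G) q)
        rw [hk] at hrd
        have := (Nat.prime_dvd_prime_iff_eq hr hq).1 (hr.dvd_of_dvd_pow hrd)
        rw [this]
        exact hD q hq hqD
      apply hVbot
      rw [eq_bot_iff]
      intro v hv
      have h3 := h2 (h1 ⟨v, hv, rfl⟩)
      have h4 : ((v : D) : G) = 1 := congrArg Subtype.val (Subsingleton.elim (⟨_, h3⟩ : piCore π G) 1)
      exact Subgroup.mem_bot.2 (Subtype.ext h4)
    · obtain ⟨q, hq, hqN, V', hVchar', hVbot, hVc, hVq⟩ := exists_char_elemAb (piCore π G) inferInstance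
      have : Fact q.Prime := ⟨hq⟩
      have hqπ : q ∈ π := OddOrderLocal.PiCore.piCore_isPi π q hq hqN
      have hchar := OddOrderLocal.PiCore.piCore_characteristic (G := G) π
      set V : Subgroup G := V'.map (piCore π G).subtype with hV
      have hVchar : V.Characteristic := inferInstance
      have hVA : ∀ (a : A) (v : G), v ∈ V → a • v ∈ V := smul_mem_of_char V hVchar
      have hsolV : Group.IsSolvable V := inferInstance
      have hquot := fpf_quot hA hfix V hVA hsolV
      have hcard : Nat.card (G ⧸ V) ≤ n := by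
        have h1 := Subgroup.card_mul_index V
        rw [Subgroup.index] at h1
        have h2 : 1 < Nat.card V := by
          rw [hV, Subgroup.card_map_of_injective (Subgroup.subtype_injective _), Subgroup.one_lt_card_iff_ne_bot]
          exact hVbot
        have h3 : 0 < Nat.card (G ⧸ V) := Nat.card_pos
        nlinarith
      let _ : MulDistribMulAction A (G ⧸ V) := quotAct V hVA
      have hact : ∀ (a : A) (g : G), a • (g : G ⧸ V) = ((a • g : G) : G ⧸ V) := fun _ _ => rfl
      have hDbar : D.map (QuotientGroup.mk' V) ≤ piCore π (G ⧸ V) := by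
        refine ih (G ⧸ V) inferInstance ?_ (D.map (QuotientGroup.mk' V)) ?_ ?_ ?_ hcard
        · intro x hx
          induction x using QuotientGroup.induction_on with
          | H g =>
            rw [QuotientGroup.eq_one_iff]
            refine hquot g fun f hf => ?_
            rw [← QuotientGroup.eq, ← hact, hx f hf]
        · intro p hp hpd
          exact hD p hp (hpd.trans (Subgroup.card_map_dvd D _))
        · rintro _ ⟨d, hd, rfl⟩ h hh
          change h • (d : G ⧸ V) = d
          rw [hact, hDH d hd h hh]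
        · intro x hx
          induction x using QuotientGroup.induction_on with
          | H g =>
            rintro _ ⟨d, hd, rfl⟩
            obtain ⟨v, hv, hgv⟩ := lift hA V hsolV hVA (fun v _ h => hfix v h) g
              (fun h hh => by rw [← QuotientGroup.eq, ← hact, hx h hh])
            refine ⟨(g * v) * d * (g * v)⁻¹, hDn _ hgv d hd, ?_⟩
            have h1 : ((g * v : G) : G ⧸ V) = g := by
              rw [QuotientGroup.mk_mul, (QuotientGroup.eq_one_iff v).2 hv, mul_one]
            change (((g * v) * d * (g * v)⁻¹ : G) : G ⧸ V) = (g : G ⧸ V) * (d : G ⧸ V) * (g : G ⧸ V)⁻¹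
            rw [QuotientGroup.mk_mul, QuotientGroup.mk_mul, QuotientGroup.mk_inv, h1]
      have hn2 : (piCore π (G ⧸ V)).Normal := inferInstance
      refine (Subgroup.map_le_iff_le_comap.1 hDbar).trans ?_
      refine OddOrderLocal.PiCore.le_piCore inferInstance ?_
      intro p hp hpd
      rw [OddOrderLocal.PiCore.card_comap_mk'] at hpd
      rcases hp.dvd_mul.1 hpd with h | h
      · obtain ⟨k, hk⟩ := (IsPGroup.iff_card (p := q)).1 (fun v : V => ⟨1, by
          obtain ⟨_, w, hw, rfl⟩ := v
          rw [pow_one]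
          exact Subtype.ext (congrArg (fun z : piCore π G => (z : G)) (hVq w hw))⟩)
        rw [hk] at h
        have := (Nat.prime_dvd_prime_iff_eq hp hq).1 (hp.dvd_of_dvd_pow h)
        rw [this]; exact hqπ
      · exact OddOrderLocal.PiCore.piCore_isPi π p hp h

end Cfsg.Agent.H582
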