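import Mathlib
import Cfsg.Agent.H582.Cores

/-!
# Frobenius groups of automorphisms: Fitting subgroup, `π`-core and upper `p`-series of `C_G(H)`

`IsFrob F H`, `A = FH` acts on the finite solvable group `G`, `F` has no fixed points, `C = C_G(H)`.
-/

set_option autoImplicit false

namespace Cfsg.Agent.H582

open Subgroup Cfsg

universe u w

variable {A : Type w} [Group A] [Finite A] {F H : Subgroup A} {G : Type u} [Group G] [Finite G]
  [MulDistribMulAction A G]

theorem le_piCore (hA : IsFrob F H) (π : Set ℕ) (hsol : Group.IsSolvable G)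
    (hfix : ∀ g : G, (∀ f ∈ F, f • g = g) → g = 1) (D : Subgroup G)
    (hD : ∀ p : ℕ, p.Prime → p ∣ Nat.card D → p ∈ π) (hDH : ∀ d ∈ D, ∀ h ∈ H, h • d = d)
    (hDn : ∀ x : G, (∀ h ∈ H, h • x = x) → ∀ d ∈ D, x * d * x⁻¹ ∈ D) : D ≤ piCore π G :=
  le_piCore_aux hA π _ G hsol hfix D hD hDH hDn le_rfl

theorem piCore_eq (hA : IsFrob F H) (hsol : Group.IsSolvable G)
    (hfix : ∀ g : G, (∀ f ∈ F, f • g = g) → g = 1) (C : Subgroup G)
    (hC : ∀ g : G, g ∈ C ↔ ∀ h ∈ H, h • g = g) (π : Set ℕ) :
    piCore π C = (piCore π G).subgroupOf C := by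
  apply le_antisymm
  · have h1 : (piCore π C).map C.subtype ≤ piCore π G := by
      refine le_piCore hA π hsol hfix _ ?_ ?_ ?_
      · intro p hp hpd
        rw [Subgroup.card_map_of_injective C.subtype_injective] at hpd
        exact OddOrderLocal.PiCore.piCore_isPi π p hp hpd
      · rintro _ ⟨d, -, rfl⟩ h hh
        exact (hC _).1 d.2 h hh
      · rintro x hx _ ⟨d, hd, rfl⟩
        have h2 : (piCore π C).Normal := inferInstance
        exact ⟨_, h2.conj_mem d hd ⟨x, (hC x).2 hx⟩, rfl⟩
    intro x hx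
    exact h1 ⟨x, hx, rfl⟩
  · refine OddOrderLocal.PiCore.le_piCore inferInstance ?_
    intro p hp hpd
    refine OddOrderLocal.PiCore.piCore_isPi (G := G) π p hp (hpd.trans ?_)
    have h1 : Nat.card ((piCore π G).subgroupOf C) ∣ Nat.card (piCore π G) := by
      rw [← Subgroup.inf_subgroupOf_right (piCore π G) C,
        Nat.card_congr (Subgroup.subgroupOfEquivOfLe inf_le_right).toEquiv]
      exact Subgroup.card_dvd_of_le inf_le_left
    exact h1

theorem pCore_le (hA : IsFrob F H) (hsol : Group.IsSolvable G)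
    (hfix : ∀ g : G, (∀ f ∈ F, f • g = g) → g = 1) (C : Subgroup G)
    (hC : ∀ g : G, g ∈ C ↔ ∀ h ∈ H, h • g = g) (p : ℕ) [Fact p.Prime] :
    (pCore p C).map C.subtype ≤ pCore p G := by
  refine le_pCore hA p hsol hfix _ ((Lib.Cores.pCore_isPGroup p).map _) ?_ ?_
  · rintro _ ⟨d, -, rfl⟩ h hh
    exact (hC _).1 d.2 h hh
  · rintro x hx _ ⟨d, hd, rfl⟩
    have h2 : (pCore p C).Normal := Lib.Cores.pCore_normal p
    exact ⟨_, h2.conj_mem d hd ⟨x, (hC x).2 hx⟩, rfl⟩

theorem fitting_eq (hA : IsFrob F H) (hsol : Group.IsSolvable G)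
    (hfix : ∀ g : G, (∀ f ∈ F, f • g = g) → g = 1) (C : Subgroup G)
    (hC : ∀ g : G, g ∈ C ↔ ∀ h ∈ H, h • g = g) :
    fittingSubgroup C = (fittingSubgroup G).subgroupOf C := by
  have hn : (fittingSubgroup G).Normal := Lib.Cores.fittingSubgroup_normal
  apply le_antisymm
  · rw [Lib.Cores.fittingSubgroup_eq_iSup_pCore, iSup_le_iff]
    intro p x hx
    have : Fact (p : ℕ).Prime := ⟨p.2⟩
    exact Lib.Cores.pCore_le_fittingSubgroup p (pCore_le hA hsol hfix C hC p ⟨x, hx, rfl⟩)
  · refine Lib.Cores.le_fittingSubgroup inferInstance ?_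
    have := Lib.Cores.fittingSubgroup_isNilpotent (G := G)
    rw [← Lib.Cores.isNilpotent_map_equiv C.subtype_injective, subgroupOf_map_subtype]
    exact Group.isNilpotent_congr (subgroupOfEquivOfLe
      (inf_le_left : fittingSubgroup G ⊓ C ≤ fittingSubgroup G)) |>.mp inferInstance

/-! ### The upper `p`-series -/

theorem comap_mk_characteristic {G : Type*} [Group G] (N : Subgroup G) [hN : N.Characteristic]
    (K : Subgroup (G ⧸ N)) (hK : K.Characteristic) : (K.comap (QuotientGroup.mk' N)).Characteristic := by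
  rw [Subgroup.characteristic_iff_le_comap]
  intro φ x hx
  have h1 : N.map φ.toMonoidHom = N := Subgroup.characteristic_iff_map_eq.1 hN φ
  exact (Subgroup.characteristic_iff_le_comap.1 hK) (QuotientGroup.congr N N φ h1) hx

theorem upperPSeries_characteristic {G : Type*} [Group G] (p : ℕ) (n : ℕ) :
    (upperPSeries p G n).1.Characteristic := by
  induction n with
  | zero =>
    rw [OddOrderLocal.PLengthOne.upperPSeries_zero]
    infer_instance
  | succ n ih =>
    by_cases hn : Even n
    · rw [OddOrderLocal.PLengthOne.upperPSeries_succ_even p hn]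
      exact comap_mk_characteristic _ _ (Lib.Cores.pPrimeCore_characteristic p)
    · rw [OddOrderLocal.PLengthOne.upperPSeries_succ_odd p hn]
      exact comap_mk_characteristic _ _ (Lib.Cores.pCore_characteristic p)

/-- The map `C / (N ∩ C) → G / N`. -/
def quotMap {G : Type*} [Group G] (C N : Subgroup G) [N.Normal] (N' : Subgroup C) [N'.Normal]
    (h : N' = N.subgroupOf C) : C ⧸ N' →* G ⧸ N :=
  QuotientGroup.map N' N C.subtype (by rw [h]; rfl)

theorem quotMap_injective {G : Type*} [Group G] (C N : Subgroup G) [N.Normal] (N' : Subgroup C) [N'.Normal]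
    (h : N' = N.subgroupOf C) : Function.Injective (quotMap C N N' h) := by
  rw [injective_iff_map_eq_one]
  intro x hx
  induction x using QuotientGroup.induction_on with
  | H c =>
    rw [QuotientGroup.eq_one_iff, h]
    change ((c : G) : G ⧸ N) = 1 at hx
    rw [QuotientGroup.eq_one_iff] at hx
    exact hx

/-- The main step for the terms of the series. -/
theorem step_eq {G : Type*} [Group G] (C N : Subgroup G) [N.Normal] (N' : Subgroup C) [N'.Normal]
    (h : N' = N.subgroupOf C) (K : Subgroup (G ⧸ N)) (K' : Subgroup (C ⧸ N'))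
    (h1 : K.comap (quotMap C N N' h) ≤ K') (h2 : K'.map (quotMap C N N' h) ≤ K) :
    K'.comap (QuotientGroup.mk' N') = (K.comap (QuotientGroup.mk' N)).subgroupOf C := by
  apply le_antisymm
  · intro c hc
    exact h2 ⟨_, hc, rfl⟩
  · intro c hc
    exact h1 hc

/-- The image of `X(C / N')` in `G / N` is fixed by `H` and normalised by the fixed points of `H` on `G / N`. -/
theorem image_props (hA : IsFrob F H) (hsol : Group.IsSolvable G)
    (hfix : ∀ g : G, (∀ f ∈ F, f • g = g) → g = 1) (C : Subgroup G)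
    (hC : ∀ g : G, g ∈ C ↔ ∀ h ∈ H, h • g = g) (N : Subgroup G) [N.Normal]
    (hNA : ∀ (a : A) (n : G), n ∈ N → a • n ∈ N) (N' : Subgroup C) [N'.Normal]
    (h : N' = N.subgroupOf C) (K' : Subgroup (C ⧸ N')) (hK' : K'.Normal) :
    let _ : MulDistribMulAction A (G ⧸ N) := quotAct N hNA
    (∀ d ∈ K'.map (quotMap C N N' h), ∀ h ∈ H, h • d = d) ∧
    (∀ x : G ⧸ N, (∀ h ∈ H, h • x = x) → ∀ d ∈ K'.map (quotMap C N N' h), x * d * x⁻¹ ∈ K'.map (quotMap C N N' h)) ∧
    (∀ x : G ⧸ N, (∀ f ∈ F, f • x = x) → x = 1) ∧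
    (∀ x : G ⧸ N, (∀ h ∈ H, h • x = x) → ∃ c ∈ C, x = (c : G ⧸ N)) := by
  intro _
  have hact : ∀ (a : A) (g : G), a • (g : G ⧸ N) = ((a • g : G) : G ⧸ N) := fun _ _ => rfl
  have hsolN : Group.IsSolvable N := inferInstance
  have hlift : ∀ x : G ⧸ N, (∀ h ∈ H, h • x = x) → ∃ c ∈ C, x = (c : G ⧸ N) := by
    intro x hx
    induction x using QuotientGroup.induction_on with
    | H g =>
      obtain ⟨v, hv, hgv⟩ := lift hA N hsolN hNA (fun v _ h => hfix v h) g
        (fun h hh => by rw [← QuotientGroup.eq, ← hact, hx h hh])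
      refine ⟨g * v, (hC _).2 hgv, ?_⟩
      rw [QuotientGroup.mk_mul, (QuotientGroup.eq_one_iff v).2 hv, mul_one]
  refine ⟨?_, ?_, ?_, hlift⟩
  · rintro _ ⟨d, -, rfl⟩ a ha
    induction d using QuotientGroup.induction_on with
    | H c =>
      change a • ((c : G) : G ⧸ N) = ((c : G) : G ⧸ N)
      rw [hact, (hC _).1 c.2 a ha]
  · rintro x hx _ ⟨d, hd, rfl⟩
    obtain ⟨c, hc, rfl⟩ := hlift x hx
    refine ⟨((⟨c, hc⟩ : C) : C ⧸ N') * d * ((⟨c, hc⟩ : C) : C ⧸ N')⁻¹, hK'.conj_mem d hd _, ?_⟩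
    rw [map_mul, map_mul, map_inv]
    rfl
  · intro x hx
    induction x using QuotientGroup.induction_on with
    | H g =>
      rw [QuotientGroup.eq_one_iff]
      refine fpf_quot hA hfix N hNA hsolN g fun f hf => ?_
      rw [← QuotientGroup.eq, ← hact, hx f hf]

theorem upperPSeries_eq (hA : IsFrob F H) (hsol : Group.IsSolvable G)
    (hfix : ∀ g : G, (∀ f ∈ F, f • g = g) → g = 1) (C : Subgroup G)
    (hC : ∀ g : G, g ∈ C ↔ ∀ h ∈ H, h • g = g) (p : ℕ) [hp : Fact p.Prime] (n : ℕ) :
    (upperPSeries p C n).1 = (upperPSeries p G n).1.subgroupOf C := by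
  induction n with
  | zero =>
    rw [OddOrderLocal.PLengthOne.upperPSeries_zero, OddOrderLocal.PLengthOne.upperPSeries_zero,
      Subgroup.bot_subgroupOf]
  | succ n ih =>
    have hchar := upperPSeries_characteristic (G := G) p n
    have hNA : ∀ (a : A) (v : G), v ∈ (upperPSeries p G n).1 → a • v ∈ (upperPSeries p G n).1 :=
      smul_mem_of_char _ hchar
    have hinj := quotMap_injective C (upperPSeries p G n).1 (upperPSeries p C n).1 ih
    have hsolQ : Group.IsSolvable (G ⧸ (upperPSeries p G n).1) := inferInstance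
    by_cases hn : Even n
    · rw [OddOrderLocal.PLengthOne.upperPSeries_succ_even p hn, OddOrderLocal.PLengthOne.upperPSeries_succ_even p hn]
      obtain ⟨h1, h2, h3, -⟩ := image_props hA hsol hfix C hC (upperPSeries p G n).1 hNA (upperPSeries p C n).1 ih
        (pPrimeCore p (C ⧸ (upperPSeries p C n).1)) (Lib.Cores.pPrimeCore_normal p)
      have hn1 : (pPrimeCore p (G ⧸ (upperPSeries p G n).1)).Normal := Lib.Cores.pPrimeCore_normal p
      refine step_eq C _ _ ih _ _ ?_ ?_
      · refine Lib.Cores.le_pPrimeCore inferInstance ?_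
        refine Nat.Coprime.coprime_dvd_left ?_ (Lib.Cores.pPrimeCore_coprime (G := G ⧸ (upperPSeries p G n).1) p)
        exact Subgroup.card_comap_dvd_of_injective _ _ hinj
      · let _ : MulDistribMulAction A (G ⧸ (upperPSeries p G n).1) := quotAct _ hNA
        have h4 := le_piCore hA {q | q ≠ p} hsolQ h3 _ (by
          intro q hq hqd hqp
          rw [Subgroup.card_map_of_injective hinj] at hqd
          have h5 := Lib.Cores.pPrimeCore_coprime (G := C ⧸ (upperPSeries p C n).1) p
          rw [hqp] at hqd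
          exact hp.out.one_lt.ne' (Nat.eq_one_of_dvd_coprimes h5 hqd dvd_rfl)) h1 h2
        refine h4.trans (Lib.Cores.le_pPrimeCore inferInstance ?_)
        rw [Nat.coprime_comm, hp.out.coprime_iff_not_dvd]
        intro h5
        exact OddOrderLocal.PiCore.piCore_isPi (G := G ⧸ (upperPSeries p G n).1) {q | q ≠ p} p hp.out h5 rfl
    · rw [OddOrderLocal.PLengthOne.upperPSeries_succ_odd p hn, OddOrderLocal.PLengthOne.upperPSeries_succ_odd p hn]
      obtain ⟨h1, h2, h3, -⟩ := image_props hA hsol hfix C hC (upperPSeries p G n).1 hNA (upperPSeries p C n).1 ih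
        (pCore p (C ⧸ (upperPSeries p C n).1)) (Lib.Cores.pCore_normal p)
      have hn1 : (pCore p (G ⧸ (upperPSeries p G n).1)).Normal := Lib.Cores.pCore_normal p
      refine step_eq C _ _ ih _ _ ?_ ?_
      · refine Lib.Cores.le_pCore inferInstance ?_
        exact (Lib.Cores.pCore_isPGroup p).comap_of_injective _ hinj
      · let _ : MulDistribMulAction A (G ⧸ (upperPSeries p G n).1) := quotAct _ hNA
        exact le_pCore hA p hsolQ h3 _ ((Lib.Cores.pCore_isPGroup p).map _) h1 h2

theorem pLengthLE_iff (hA : IsFrob F H) (hsol : Group.IsSolvable G)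
    (hfix : ∀ g : G, (∀ f ∈ F, f • g = g) → g = 1) (C : Subgroup G)
    (hC : ∀ g : G, g ∈ C ↔ ∀ h ∈ H, h • g = g) (p : ℕ) [Fact p.Prime] (k : ℕ) :
    PLengthLE p k G ↔ PLengthLE p k C := by
  unfold PLengthLE
  rw [upperPSeries_eq hA hsol hfix C hC p]
  constructor
  · intro h
    rw [h, Subgroup.top_subgroupOf]
  · intro h
    rw [Subgroup.subgroupOf_eq_top] at h
    have hchar := upperPSeries_characteristic (G := G) p (2 * k + 1)
    have hNA : ∀ (a : A) (v : G), v ∈ (upperPSeries p G (2 * k + 1)).1 → a • v ∈ (upperPSeries p G (2 * k + 1)).1 :=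
      smul_mem_of_char _ hchar
    obtain ⟨-, -, h3, h4⟩ := image_props hA hsol hfix C hC (upperPSeries p G (2 * k + 1)).1 hNA
      ((upperPSeries p G (2 * k + 1)).1.subgroupOf C) rfl ⊥ inferInstance
    let _ : MulDistribMulAction A (G ⧸ (upperPSeries p G (2 * k + 1)).1) := quotAct _ hNA
    rw [eq_top_iff]
    intro g _
    rw [← QuotientGroup.eq_one_iff]
    refine eq_one hA (G := G ⧸ (upperPSeries p G (2 * k + 1)).1) inferInstance h3 ?_ _
    intro x hx
    obtain ⟨c, hc, rfl⟩ := h4 x hx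
    rw [QuotientGroup.eq_one_iff]
    exact h hc

end Cfsg.Agent.H582
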